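import Cfsg.Agent.Lib.SporRecognition.Cert.SuzG24V.PermBase
import Cfsg.Agent.Lib.SporRecognition.SuzG2.Field
import Cfsg.Agent.Lib.SporRecognition.SuzG2.Presented
import Cfsg.Agent.Lib.OrderDegrees.G2Stab

/-! The six dimensional representation over GF(4) of the subgroup of Suz on `a, …, f`. -/

set_option autoImplicit false
set_option maxRecDepth 20000
set_option linter.constructorNameAsVariable false
set_option Elab.async false

namespace CfsgLib.SporRecognition.SuzG2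

open CfsgLib.SporRecognition.CosetCert
open CfsgLib.SporRecognition.Cert.SuzG24V
open Cfsg.Spor.Suz (Gen)
open scoped Matrix

/-- The element with a given code. -/
noncomputable def toK (n : Nat) : K4 := bif Nat.beq n 1 then .o else bif Nat.beq n 2 then .w else bif Nat.beq n 3 then .u else .z

/-- Base four digit. -/
noncomputable def nib (n k : Nat) : Nat := Nat.land (Nat.shiftRight n (Nat.mul 2 k)) 3

/-- Multiplication of codes. -/
noncomputable def nmul (x y : Nat) : Nat := Nat.land (Nat.shiftRight 0x9c78e400 (Nat.mul 2 (Nat.add (Nat.mul 4 x) y))) 3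

theorem toK_mul : ∀ x : Fin 4, ∀ y : Fin 4, toK (nmul x y) = toK x * toK y := by decide +kernel

theorem toK_xor : ∀ x : Fin 4, ∀ y : Fin 4, toK (Nat.xor x y) = toK x + toK y := by decide +kernel

theorem toK_inj : ∀ x : Fin 4, ∀ y : Fin 4, toK x = toK y → x = y := by decide +kernel

theorem nib_lt (n k : Nat) : nib n k < 4 := lt_of_le_of_lt Nat.and_le_right (by norm_num)

theorem xor_lt {x y : Nat} (hx : x < 4) (hy : y < 4) : Nat.xor x y < 4 := Nat.xor_lt_two_pow (n := 2) hx hy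

theorem nmul_lt (x y : Nat) : nmul x y < 4 := lt_of_le_of_lt Nat.and_le_right (by norm_num)

theorem toK_mul' {x y : Nat} (hx : x < 4) (hy : y < 4) : toK (nmul x y) = toK x * toK y := toK_mul ⟨x, hx⟩ ⟨y, hy⟩

theorem toK_xor' {x y : Nat} (hx : x < 4) (hy : y < 4) : toK (Nat.xor x y) = toK x + toK y :=
  toK_xor ⟨x, hx⟩ ⟨y, hy⟩

/-- The vector numbered `u`. -/
noncomputable def vec (u : Nat) : Fin 6 → K4 := fun k => toK (nib (u + 1) k)

noncomputable def row (a : Gen) (i : Nat) : Nat := (rows a).getD i 0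

/-- The matrices. -/
noncomputable def mat (a : Gen) : Matrix (Fin 6) (Fin 6) K4 := Matrix.of fun i j => toK (nib (row a i) j)

/-- Coordinate `k` of the table is the product by the matrix. -/
noncomputable def coordStep (a : Gen) (u k : Nat) : Bool :=
  Nat.beq (nib (Nat.add (tabs a true u) 1) k)
    (Nat.xor (Nat.xor (Nat.xor (Nat.xor (Nat.xor (nmul (nib (row a k) 0) (nib (Nat.add u 1) 0))
      (nmul (nib (row a k) 1) (nib (Nat.add u 1) 1))) (nmul (nib (row a k) 2) (nib (Nat.add u 1) 2)))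
      (nmul (nib (row a k) 3) (nib (Nat.add u 1) 3))) (nmul (nib (row a k) 4) (nib (Nat.add u 1) 4)))
      (nmul (nib (row a k) 5) (nib (Nat.add u 1) 5)))

noncomputable def vecStep (a : Gen) (u : Nat) : Bool :=
  coordStep a u 0 && coordStep a u 1 && coordStep a u 2 && coordStep a u 3 && coordStep a u 4 && coordStep a u 5

noncomputable def relsStep (u : Nat) : Bool := W6.all fun w => Nat.beq (trace (wordTabs tabs w) u) u

theorem vec_a_c0 : allPow 4095 (vecStep .a) 7 0 = true := by decide +kernel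
theorem vec_a_c1 : allPow 4095 (vecStep .a) 7 128 = true := by decide +kernel
theorem vec_a_c2 : allPow 4095 (vecStep .a) 7 256 = true := by decide +kernel
theorem vec_a_c3 : allPow 4095 (vecStep .a) 7 384 = true := by decide +kernel
theorem vec_a_c4 : allPow 4095 (vecStep .a) 7 512 = true := by decide +kernel
theorem vec_a_c5 : allPow 4095 (vecStep .a) 7 640 = true := by decide +kernel
theorem vec_a_c6 : allPow 4095 (vecStep .a) 7 768 = true := by decide +kernel
theorem vec_a_c7 : allPow 4095 (vecStep .a) 7 896 = true := by decide +kernel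
theorem vec_a_c8 : allPow 4095 (vecStep .a) 7 1024 = true := by decide +kernel
theorem vec_a_c9 : allPow 4095 (vecStep .a) 7 1152 = true := by decide +kernel
theorem vec_a_c10 : allPow 4095 (vecStep .a) 7 1280 = true := by decide +kernel
theorem vec_a_c11 : allPow 4095 (vecStep .a) 7 1408 = true := by decide +kernel
theorem vec_a_c12 : allPow 4095 (vecStep .a) 7 1536 = true := by decide +kernel
theorem vec_a_c13 : allPow 4095 (vecStep .a) 7 1664 = true := by decide +kernel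
theorem vec_a_c14 : allPow 4095 (vecStep .a) 7 1792 = true := by decide +kernel
theorem vec_a_c15 : allPow 4095 (vecStep .a) 7 1920 = true := by decide +kernel
theorem vec_a_c16 : allPow 4095 (vecStep .a) 7 2048 = true := by decide +kernel
theorem vec_a_c17 : allPow 4095 (vecStep .a) 7 2176 = true := by decide +kernel
theorem vec_a_c18 : allPow 4095 (vecStep .a) 7 2304 = true := by decide +kernel
theorem vec_a_c19 : allPow 4095 (vecStep .a) 7 2432 = true := by decide +kernel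
theorem vec_a_c20 : allPow 4095 (vecStep .a) 7 2560 = true := by decide +kernel
theorem vec_a_c21 : allPow 4095 (vecStep .a) 7 2688 = true := by decide +kernel
theorem vec_a_c22 : allPow 4095 (vecStep .a) 7 2816 = true := by decide +kernel
theorem vec_a_c23 : allPow 4095 (vecStep .a) 7 2944 = true := by decide +kernel
theorem vec_a_c24 : allPow 4095 (vecStep .a) 7 3072 = true := by decide +kernel
theorem vec_a_c25 : allPow 4095 (vecStep .a) 7 3200 = true := by decide +kernel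
theorem vec_a_c26 : allPow 4095 (vecStep .a) 7 3328 = true := by decide +kernel
theorem vec_a_c27 : allPow 4095 (vecStep .a) 7 3456 = true := by decide +kernel
theorem vec_a_c28 : allPow 4095 (vecStep .a) 7 3584 = true := by decide +kernel
theorem vec_a_c29 : allPow 4095 (vecStep .a) 7 3712 = true := by decide +kernel
theorem vec_a_c30 : allPow 4095 (vecStep .a) 7 3840 = true := by decide +kernel
theorem vec_a_c31 : allPow 4095 (vecStep .a) 7 3968 = true := by decide +kernel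
theorem vec_a : allBelow 12 4095 (vecStep .a) = true :=
  allBelow_of_upto (hi := 4096)
    (Upto.trans (mid := 2048) (Upto.trans (mid := 1024) (Upto.trans (mid := 512) (Upto.trans (mid := 256) (Upto.trans (mid := 128) ((Upto.of_pow vec_a_c0 (Nat.le_refl _)) : Upto _ _ 0 (0 + 2 ^ 7))
    ((Upto.of_pow vec_a_c1 (Nat.le_refl _)) : Upto _ _ 128 (128 + 2 ^ 7)))
    (Upto.trans (mid := 384) ((Upto.of_pow vec_a_c2 (Nat.le_refl _)) : Upto _ _ 256 (256 + 2 ^ 7))
    ((Upto.of_pow vec_a_c3 (Nat.le_refl _)) : Upto _ _ 384 (384 + 2 ^ 7))))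
    (Upto.trans (mid := 768) (Upto.trans (mid := 640) ((Upto.of_pow vec_a_c4 (Nat.le_refl _)) : Upto _ _ 512 (512 + 2 ^ 7))
    ((Upto.of_pow vec_a_c5 (Nat.le_refl _)) : Upto _ _ 640 (640 + 2 ^ 7)))
    (Upto.trans (mid := 896) ((Upto.of_pow vec_a_c6 (Nat.le_refl _)) : Upto _ _ 768 (768 + 2 ^ 7))
    ((Upto.of_pow vec_a_c7 (Nat.le_refl _)) : Upto _ _ 896 (896 + 2 ^ 7)))))
    (Upto.trans (mid := 1536) (Upto.trans (mid := 1280) (Upto.trans (mid := 1152) ((Upto.of_pow vec_a_c8 (Nat.le_refl _)) : Upto _ _ 1024 (1024 + 2 ^ 7))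
    ((Upto.of_pow vec_a_c9 (Nat.le_refl _)) : Upto _ _ 1152 (1152 + 2 ^ 7)))
    (Upto.trans (mid := 1408) ((Upto.of_pow vec_a_c10 (Nat.le_refl _)) : Upto _ _ 1280 (1280 + 2 ^ 7))
    ((Upto.of_pow vec_a_c11 (Nat.le_refl _)) : Upto _ _ 1408 (1408 + 2 ^ 7))))
    (Upto.trans (mid := 1792) (Upto.trans (mid := 1664) ((Upto.of_pow vec_a_c12 (Nat.le_refl _)) : Upto _ _ 1536 (1536 + 2 ^ 7))
    ((Upto.of_pow vec_a_c13 (Nat.le_refl _)) : Upto _ _ 1664 (1664 + 2 ^ 7)))
    (Upto.trans (mid := 1920) ((Upto.of_pow vec_a_c14 (Nat.le_refl _)) : Upto _ _ 1792 (1792 + 2 ^ 7))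
    ((Upto.of_pow vec_a_c15 (Nat.le_refl _)) : Upto _ _ 1920 (1920 + 2 ^ 7))))))
    (Upto.trans (mid := 3072) (Upto.trans (mid := 2560) (Upto.trans (mid := 2304) (Upto.trans (mid := 2176) ((Upto.of_pow vec_a_c16 (Nat.le_refl _)) : Upto _ _ 2048 (2048 + 2 ^ 7))
    ((Upto.of_pow vec_a_c17 (Nat.le_refl _)) : Upto _ _ 2176 (2176 + 2 ^ 7)))
    (Upto.trans (mid := 2432) ((Upto.of_pow vec_a_c18 (Nat.le_refl _)) : Upto _ _ 2304 (2304 + 2 ^ 7))
    ((Upto.of_pow vec_a_c19 (Nat.le_refl _)) : Upto _ _ 2432 (2432 + 2 ^ 7))))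
    (Upto.trans (mid := 2816) (Upto.trans (mid := 2688) ((Upto.of_pow vec_a_c20 (Nat.le_refl _)) : Upto _ _ 2560 (2560 + 2 ^ 7))
    ((Upto.of_pow vec_a_c21 (Nat.le_refl _)) : Upto _ _ 2688 (2688 + 2 ^ 7)))
    (Upto.trans (mid := 2944) ((Upto.of_pow vec_a_c22 (Nat.le_refl _)) : Upto _ _ 2816 (2816 + 2 ^ 7))
    ((Upto.of_pow vec_a_c23 (Nat.le_refl _)) : Upto _ _ 2944 (2944 + 2 ^ 7)))))
    (Upto.trans (mid := 3584) (Upto.trans (mid := 3328) (Upto.trans (mid := 3200) ((Upto.of_pow vec_a_c24 (Nat.le_refl _)) : Upto _ _ 3072 (3072 + 2 ^ 7))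
    ((Upto.of_pow vec_a_c25 (Nat.le_refl _)) : Upto _ _ 3200 (3200 + 2 ^ 7)))
    (Upto.trans (mid := 3456) ((Upto.of_pow vec_a_c26 (Nat.le_refl _)) : Upto _ _ 3328 (3328 + 2 ^ 7))
    ((Upto.of_pow vec_a_c27 (Nat.le_refl _)) : Upto _ _ 3456 (3456 + 2 ^ 7))))
    (Upto.trans (mid := 3840) (Upto.trans (mid := 3712) ((Upto.of_pow vec_a_c28 (Nat.le_refl _)) : Upto _ _ 3584 (3584 + 2 ^ 7))
    ((Upto.of_pow vec_a_c29 (Nat.le_refl _)) : Upto _ _ 3712 (3712 + 2 ^ 7)))
    (Upto.trans (mid := 3968) ((Upto.of_pow vec_a_c30 (Nat.le_refl _)) : Upto _ _ 3840 (3840 + 2 ^ 7))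
    ((Upto.of_pow vec_a_c31 (Nat.le_refl _)) : Upto _ _ 3968 (3968 + 2 ^ 7)))))))
    (by decide) (by decide)

theorem vec_b_c0 : allPow 4095 (vecStep .b) 7 0 = true := by decide +kernel
theorem vec_b_c1 : allPow 4095 (vecStep .b) 7 128 = true := by decide +kernel
theorem vec_b_c2 : allPow 4095 (vecStep .b) 7 256 = true := by decide +kernel
theorem vec_b_c3 : allPow 4095 (vecStep .b) 7 384 = true := by decide +kernel
theorem vec_b_c4 : allPow 4095 (vecStep .b) 7 512 = true := by decide +kernel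
theorem vec_b_c5 : allPow 4095 (vecStep .b) 7 640 = true := by decide +kernel
theorem vec_b_c6 : allPow 4095 (vecStep .b) 7 768 = true := by decide +kernel
theorem vec_b_c7 : allPow 4095 (vecStep .b) 7 896 = true := by decide +kernel
theorem vec_b_c8 : allPow 4095 (vecStep .b) 7 1024 = true := by decide +kernel
theorem vec_b_c9 : allPow 4095 (vecStep .b) 7 1152 = true := by decide +kernel
theorem vec_b_c10 : allPow 4095 (vecStep .b) 7 1280 = true := by decide +kernel
theorem vec_b_c11 : allPow 4095 (vecStep .b) 7 1408 = true := by decide +kernel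
theorem vec_b_c12 : allPow 4095 (vecStep .b) 7 1536 = true := by decide +kernel
theorem vec_b_c13 : allPow 4095 (vecStep .b) 7 1664 = true := by decide +kernel
theorem vec_b_c14 : allPow 4095 (vecStep .b) 7 1792 = true := by decide +kernel
theorem vec_b_c15 : allPow 4095 (vecStep .b) 7 1920 = true := by decide +kernel
theorem vec_b_c16 : allPow 4095 (vecStep .b) 7 2048 = true := by decide +kernel
theorem vec_b_c17 : allPow 4095 (vecStep .b) 7 2176 = true := by decide +kernel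
theorem vec_b_c18 : allPow 4095 (vecStep .b) 7 2304 = true := by decide +kernel
theorem vec_b_c19 : allPow 4095 (vecStep .b) 7 2432 = true := by decide +kernel
theorem vec_b_c20 : allPow 4095 (vecStep .b) 7 2560 = true := by decide +kernel
theorem vec_b_c21 : allPow 4095 (vecStep .b) 7 2688 = true := by decide +kernel
theorem vec_b_c22 : allPow 4095 (vecStep .b) 7 2816 = true := by decide +kernel
theorem vec_b_c23 : allPow 4095 (vecStep .b) 7 2944 = true := by decide +kernel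
theorem vec_b_c24 : allPow 4095 (vecStep .b) 7 3072 = true := by decide +kernel
theorem vec_b_c25 : allPow 4095 (vecStep .b) 7 3200 = true := by decide +kernel
theorem vec_b_c26 : allPow 4095 (vecStep .b) 7 3328 = true := by decide +kernel
theorem vec_b_c27 : allPow 4095 (vecStep .b) 7 3456 = true := by decide +kernel
theorem vec_b_c28 : allPow 4095 (vecStep .b) 7 3584 = true := by decide +kernel
theorem vec_b_c29 : allPow 4095 (vecStep .b) 7 3712 = true := by decide +kernel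
theorem vec_b_c30 : allPow 4095 (vecStep .b) 7 3840 = true := by decide +kernel
theorem vec_b_c31 : allPow 4095 (vecStep .b) 7 3968 = true := by decide +kernel
theorem vec_b : allBelow 12 4095 (vecStep .b) = true :=
  allBelow_of_upto (hi := 4096)
    (Upto.trans (mid := 2048) (Upto.trans (mid := 1024) (Upto.trans (mid := 512) (Upto.trans (mid := 256) (Upto.trans (mid := 128) ((Upto.of_pow vec_b_c0 (Nat.le_refl _)) : Upto _ _ 0 (0 + 2 ^ 7))
    ((Upto.of_pow vec_b_c1 (Nat.le_refl _)) : Upto _ _ 128 (128 + 2 ^ 7)))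
    (Upto.trans (mid := 384) ((Upto.of_pow vec_b_c2 (Nat.le_refl _)) : Upto _ _ 256 (256 + 2 ^ 7))
    ((Upto.of_pow vec_b_c3 (Nat.le_refl _)) : Upto _ _ 384 (384 + 2 ^ 7))))
    (Upto.trans (mid := 768) (Upto.trans (mid := 640) ((Upto.of_pow vec_b_c4 (Nat.le_refl _)) : Upto _ _ 512 (512 + 2 ^ 7))
    ((Upto.of_pow vec_b_c5 (Nat.le_refl _)) : Upto _ _ 640 (640 + 2 ^ 7)))
    (Upto.trans (mid := 896) ((Upto.of_pow vec_b_c6 (Nat.le_refl _)) : Upto _ _ 768 (768 + 2 ^ 7))
    ((Upto.of_pow vec_b_c7 (Nat.le_refl _)) : Upto _ _ 896 (896 + 2 ^ 7)))))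
    (Upto.trans (mid := 1536) (Upto.trans (mid := 1280) (Upto.trans (mid := 1152) ((Upto.of_pow vec_b_c8 (Nat.le_refl _)) : Upto _ _ 1024 (1024 + 2 ^ 7))
    ((Upto.of_pow vec_b_c9 (Nat.le_refl _)) : Upto _ _ 1152 (1152 + 2 ^ 7)))
    (Upto.trans (mid := 1408) ((Upto.of_pow vec_b_c10 (Nat.le_refl _)) : Upto _ _ 1280 (1280 + 2 ^ 7))
    ((Upto.of_pow vec_b_c11 (Nat.le_refl _)) : Upto _ _ 1408 (1408 + 2 ^ 7))))
    (Upto.trans (mid := 1792) (Upto.trans (mid := 1664) ((Upto.of_pow vec_b_c12 (Nat.le_refl _)) : Upto _ _ 1536 (1536 + 2 ^ 7))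
    ((Upto.of_pow vec_b_c13 (Nat.le_refl _)) : Upto _ _ 1664 (1664 + 2 ^ 7)))
    (Upto.trans (mid := 1920) ((Upto.of_pow vec_b_c14 (Nat.le_refl _)) : Upto _ _ 1792 (1792 + 2 ^ 7))
    ((Upto.of_pow vec_b_c15 (Nat.le_refl _)) : Upto _ _ 1920 (1920 + 2 ^ 7))))))
    (Upto.trans (mid := 3072) (Upto.trans (mid := 2560) (Upto.trans (mid := 2304) (Upto.trans (mid := 2176) ((Upto.of_pow vec_b_c16 (Nat.le_refl _)) : Upto _ _ 2048 (2048 + 2 ^ 7))
    ((Upto.of_pow vec_b_c17 (Nat.le_refl _)) : Upto _ _ 2176 (2176 + 2 ^ 7)))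
    (Upto.trans (mid := 2432) ((Upto.of_pow vec_b_c18 (Nat.le_refl _)) : Upto _ _ 2304 (2304 + 2 ^ 7))
    ((Upto.of_pow vec_b_c19 (Nat.le_refl _)) : Upto _ _ 2432 (2432 + 2 ^ 7))))
    (Upto.trans (mid := 2816) (Upto.trans (mid := 2688) ((Upto.of_pow vec_b_c20 (Nat.le_refl _)) : Upto _ _ 2560 (2560 + 2 ^ 7))
    ((Upto.of_pow vec_b_c21 (Nat.le_refl _)) : Upto _ _ 2688 (2688 + 2 ^ 7)))
    (Upto.trans (mid := 2944) ((Upto.of_pow vec_b_c22 (Nat.le_refl _)) : Upto _ _ 2816 (2816 + 2 ^ 7))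
    ((Upto.of_pow vec_b_c23 (Nat.le_refl _)) : Upto _ _ 2944 (2944 + 2 ^ 7)))))
    (Upto.trans (mid := 3584) (Upto.trans (mid := 3328) (Upto.trans (mid := 3200) ((Upto.of_pow vec_b_c24 (Nat.le_refl _)) : Upto _ _ 3072 (3072 + 2 ^ 7))
    ((Upto.of_pow vec_b_c25 (Nat.le_refl _)) : Upto _ _ 3200 (3200 + 2 ^ 7)))
    (Upto.trans (mid := 3456) ((Upto.of_pow vec_b_c26 (Nat.le_refl _)) : Upto _ _ 3328 (3328 + 2 ^ 7))
    ((Upto.of_pow vec_b_c27 (Nat.le_refl _)) : Upto _ _ 3456 (3456 + 2 ^ 7))))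
    (Upto.trans (mid := 3840) (Upto.trans (mid := 3712) ((Upto.of_pow vec_b_c28 (Nat.le_refl _)) : Upto _ _ 3584 (3584 + 2 ^ 7))
    ((Upto.of_pow vec_b_c29 (Nat.le_refl _)) : Upto _ _ 3712 (3712 + 2 ^ 7)))
    (Upto.trans (mid := 3968) ((Upto.of_pow vec_b_c30 (Nat.le_refl _)) : Upto _ _ 3840 (3840 + 2 ^ 7))
    ((Upto.of_pow vec_b_c31 (Nat.le_refl _)) : Upto _ _ 3968 (3968 + 2 ^ 7)))))))
    (by decide) (by decide)

theorem vec_c_c0 : allPow 4095 (vecStep .c) 7 0 = true := by decide +kernel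
theorem vec_c_c1 : allPow 4095 (vecStep .c) 7 128 = true := by decide +kernel
theorem vec_c_c2 : allPow 4095 (vecStep .c) 7 256 = true := by decide +kernel
theorem vec_c_c3 : allPow 4095 (vecStep .c) 7 384 = true := by decide +kernel
theorem vec_c_c4 : allPow 4095 (vecStep .c) 7 512 = true := by decide +kernel
theorem vec_c_c5 : allPow 4095 (vecStep .c) 7 640 = true := by decide +kernel
theorem vec_c_c6 : allPow 4095 (vecStep .c) 7 768 = true := by decide +kernel
theorem vec_c_c7 : allPow 4095 (vecStep .c) 7 896 = true := by decide +kernel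
theorem vec_c_c8 : allPow 4095 (vecStep .c) 7 1024 = true := by decide +kernel
theorem vec_c_c9 : allPow 4095 (vecStep .c) 7 1152 = true := by decide +kernel
theorem vec_c_c10 : allPow 4095 (vecStep .c) 7 1280 = true := by decide +kernel
theorem vec_c_c11 : allPow 4095 (vecStep .c) 7 1408 = true := by decide +kernel
theorem vec_c_c12 : allPow 4095 (vecStep .c) 7 1536 = true := by decide +kernel
theorem vec_c_c13 : allPow 4095 (vecStep .c) 7 1664 = true := by decide +kernel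
theorem vec_c_c14 : allPow 4095 (vecStep .c) 7 1792 = true := by decide +kernel
theorem vec_c_c15 : allPow 4095 (vecStep .c) 7 1920 = true := by decide +kernel
theorem vec_c_c16 : allPow 4095 (vecStep .c) 7 2048 = true := by decide +kernel
theorem vec_c_c17 : allPow 4095 (vecStep .c) 7 2176 = true := by decide +kernel
theorem vec_c_c18 : allPow 4095 (vecStep .c) 7 2304 = true := by decide +kernel
theorem vec_c_c19 : allPow 4095 (vecStep .c) 7 2432 = true := by decide +kernel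
theorem vec_c_c20 : allPow 4095 (vecStep .c) 7 2560 = true := by decide +kernel
theorem vec_c_c21 : allPow 4095 (vecStep .c) 7 2688 = true := by decide +kernel
theorem vec_c_c22 : allPow 4095 (vecStep .c) 7 2816 = true := by decide +kernel
theorem vec_c_c23 : allPow 4095 (vecStep .c) 7 2944 = true := by decide +kernel
theorem vec_c_c24 : allPow 4095 (vecStep .c) 7 3072 = true := by decide +kernel
theorem vec_c_c25 : allPow 4095 (vecStep .c) 7 3200 = true := by decide +kernel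
theorem vec_c_c26 : allPow 4095 (vecStep .c) 7 3328 = true := by decide +kernel
theorem vec_c_c27 : allPow 4095 (vecStep .c) 7 3456 = true := by decide +kernel
theorem vec_c_c28 : allPow 4095 (vecStep .c) 7 3584 = true := by decide +kernel
theorem vec_c_c29 : allPow 4095 (vecStep .c) 7 3712 = true := by decide +kernel
theorem vec_c_c30 : allPow 4095 (vecStep .c) 7 3840 = true := by decide +kernel
theorem vec_c_c31 : allPow 4095 (vecStep .c) 7 3968 = true := by decide +kernel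
theorem vec_c : allBelow 12 4095 (vecStep .c) = true :=
  allBelow_of_upto (hi := 4096)
    (Upto.trans (mid := 2048) (Upto.trans (mid := 1024) (Upto.trans (mid := 512) (Upto.trans (mid := 256) (Upto.trans (mid := 128) ((Upto.of_pow vec_c_c0 (Nat.le_refl _)) : Upto _ _ 0 (0 + 2 ^ 7))
    ((Upto.of_pow vec_c_c1 (Nat.le_refl _)) : Upto _ _ 128 (128 + 2 ^ 7)))
    (Upto.trans (mid := 384) ((Upto.of_pow vec_c_c2 (Nat.le_refl _)) : Upto _ _ 256 (256 + 2 ^ 7))
    ((Upto.of_pow vec_c_c3 (Nat.le_refl _)) : Upto _ _ 384 (384 + 2 ^ 7))))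
    (Upto.trans (mid := 768) (Upto.trans (mid := 640) ((Upto.of_pow vec_c_c4 (Nat.le_refl _)) : Upto _ _ 512 (512 + 2 ^ 7))
    ((Upto.of_pow vec_c_c5 (Nat.le_refl _)) : Upto _ _ 640 (640 + 2 ^ 7)))
    (Upto.trans (mid := 896) ((Upto.of_pow vec_c_c6 (Nat.le_refl _)) : Upto _ _ 768 (768 + 2 ^ 7))
    ((Upto.of_pow vec_c_c7 (Nat.le_refl _)) : Upto _ _ 896 (896 + 2 ^ 7)))))
    (Upto.trans (mid := 1536) (Upto.trans (mid := 1280) (Upto.trans (mid := 1152) ((Upto.of_pow vec_c_c8 (Nat.le_refl _)) : Upto _ _ 1024 (1024 + 2 ^ 7))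
    ((Upto.of_pow vec_c_c9 (Nat.le_refl _)) : Upto _ _ 1152 (1152 + 2 ^ 7)))
    (Upto.trans (mid := 1408) ((Upto.of_pow vec_c_c10 (Nat.le_refl _)) : Upto _ _ 1280 (1280 + 2 ^ 7))
    ((Upto.of_pow vec_c_c11 (Nat.le_refl _)) : Upto _ _ 1408 (1408 + 2 ^ 7))))
    (Upto.trans (mid := 1792) (Upto.trans (mid := 1664) ((Upto.of_pow vec_c_c12 (Nat.le_refl _)) : Upto _ _ 1536 (1536 + 2 ^ 7))
    ((Upto.of_pow vec_c_c13 (Nat.le_refl _)) : Upto _ _ 1664 (1664 + 2 ^ 7)))
    (Upto.trans (mid := 1920) ((Upto.of_pow vec_c_c14 (Nat.le_refl _)) : Upto _ _ 1792 (1792 + 2 ^ 7))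
    ((Upto.of_pow vec_c_c15 (Nat.le_refl _)) : Upto _ _ 1920 (1920 + 2 ^ 7))))))
    (Upto.trans (mid := 3072) (Upto.trans (mid := 2560) (Upto.trans (mid := 2304) (Upto.trans (mid := 2176) ((Upto.of_pow vec_c_c16 (Nat.le_refl _)) : Upto _ _ 2048 (2048 + 2 ^ 7))
    ((Upto.of_pow vec_c_c17 (Nat.le_refl _)) : Upto _ _ 2176 (2176 + 2 ^ 7)))
    (Upto.trans (mid := 2432) ((Upto.of_pow vec_c_c18 (Nat.le_refl _)) : Upto _ _ 2304 (2304 + 2 ^ 7))
    ((Upto.of_pow vec_c_c19 (Nat.le_refl _)) : Upto _ _ 2432 (2432 + 2 ^ 7))))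
    (Upto.trans (mid := 2816) (Upto.trans (mid := 2688) ((Upto.of_pow vec_c_c20 (Nat.le_refl _)) : Upto _ _ 2560 (2560 + 2 ^ 7))
    ((Upto.of_pow vec_c_c21 (Nat.le_refl _)) : Upto _ _ 2688 (2688 + 2 ^ 7)))
    (Upto.trans (mid := 2944) ((Upto.of_pow vec_c_c22 (Nat.le_refl _)) : Upto _ _ 2816 (2816 + 2 ^ 7))
    ((Upto.of_pow vec_c_c23 (Nat.le_refl _)) : Upto _ _ 2944 (2944 + 2 ^ 7)))))
    (Upto.trans (mid := 3584) (Upto.trans (mid := 3328) (Upto.trans (mid := 3200) ((Upto.of_pow vec_c_c24 (Nat.le_refl _)) : Upto _ _ 3072 (3072 + 2 ^ 7))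
    ((Upto.of_pow vec_c_c25 (Nat.le_refl _)) : Upto _ _ 3200 (3200 + 2 ^ 7)))
    (Upto.trans (mid := 3456) ((Upto.of_pow vec_c_c26 (Nat.le_refl _)) : Upto _ _ 3328 (3328 + 2 ^ 7))
    ((Upto.of_pow vec_c_c27 (Nat.le_refl _)) : Upto _ _ 3456 (3456 + 2 ^ 7))))
    (Upto.trans (mid := 3840) (Upto.trans (mid := 3712) ((Upto.of_pow vec_c_c28 (Nat.le_refl _)) : Upto _ _ 3584 (3584 + 2 ^ 7))
    ((Upto.of_pow vec_c_c29 (Nat.le_refl _)) : Upto _ _ 3712 (3712 + 2 ^ 7)))
    (Upto.trans (mid := 3968) ((Upto.of_pow vec_c_c30 (Nat.le_refl _)) : Upto _ _ 3840 (3840 + 2 ^ 7))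
    ((Upto.of_pow vec_c_c31 (Nat.le_refl _)) : Upto _ _ 3968 (3968 + 2 ^ 7)))))))
    (by decide) (by decide)

theorem vec_d_c0 : allPow 4095 (vecStep .d) 7 0 = true := by decide +kernel
theorem vec_d_c1 : allPow 4095 (vecStep .d) 7 128 = true := by decide +kernel
theorem vec_d_c2 : allPow 4095 (vecStep .d) 7 256 = true := by decide +kernel
theorem vec_d_c3 : allPow 4095 (vecStep .d) 7 384 = true := by decide +kernel
theorem vec_d_c4 : allPow 4095 (vecStep .d) 7 512 = true := by decide +kernel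
theorem vec_d_c5 : allPow 4095 (vecStep .d) 7 640 = true := by decide +kernel
theorem vec_d_c6 : allPow 4095 (vecStep .d) 7 768 = true := by decide +kernel
theorem vec_d_c7 : allPow 4095 (vecStep .d) 7 896 = true := by decide +kernel
theorem vec_d_c8 : allPow 4095 (vecStep .d) 7 1024 = true := by decide +kernel
theorem vec_d_c9 : allPow 4095 (vecStep .d) 7 1152 = true := by decide +kernel
theorem vec_d_c10 : allPow 4095 (vecStep .d) 7 1280 = true := by decide +kernel
theorem vec_d_c11 : allPow 4095 (vecStep .d) 7 1408 = true := by decide +kernel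
theorem vec_d_c12 : allPow 4095 (vecStep .d) 7 1536 = true := by decide +kernel
theorem vec_d_c13 : allPow 4095 (vecStep .d) 7 1664 = true := by decide +kernel
theorem vec_d_c14 : allPow 4095 (vecStep .d) 7 1792 = true := by decide +kernel
theorem vec_d_c15 : allPow 4095 (vecStep .d) 7 1920 = true := by decide +kernel
theorem vec_d_c16 : allPow 4095 (vecStep .d) 7 2048 = true := by decide +kernel
theorem vec_d_c17 : allPow 4095 (vecStep .d) 7 2176 = true := by decide +kernel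
theorem vec_d_c18 : allPow 4095 (vecStep .d) 7 2304 = true := by decide +kernel
theorem vec_d_c19 : allPow 4095 (vecStep .d) 7 2432 = true := by decide +kernel
theorem vec_d_c20 : allPow 4095 (vecStep .d) 7 2560 = true := by decide +kernel
theorem vec_d_c21 : allPow 4095 (vecStep .d) 7 2688 = true := by decide +kernel
theorem vec_d_c22 : allPow 4095 (vecStep .d) 7 2816 = true := by decide +kernel
theorem vec_d_c23 : allPow 4095 (vecStep .d) 7 2944 = true := by decide +kernel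
theorem vec_d_c24 : allPow 4095 (vecStep .d) 7 3072 = true := by decide +kernel
theorem vec_d_c25 : allPow 4095 (vecStep .d) 7 3200 = true := by decide +kernel
theorem vec_d_c26 : allPow 4095 (vecStep .d) 7 3328 = true := by decide +kernel
theorem vec_d_c27 : allPow 4095 (vecStep .d) 7 3456 = true := by decide +kernel
theorem vec_d_c28 : allPow 4095 (vecStep .d) 7 3584 = true := by decide +kernel
theorem vec_d_c29 : allPow 4095 (vecStep .d) 7 3712 = true := by decide +kernel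
theorem vec_d_c30 : allPow 4095 (vecStep .d) 7 3840 = true := by decide +kernel
theorem vec_d_c31 : allPow 4095 (vecStep .d) 7 3968 = true := by decide +kernel
theorem vec_d : allBelow 12 4095 (vecStep .d) = true :=
  allBelow_of_upto (hi := 4096)
    (Upto.trans (mid := 2048) (Upto.trans (mid := 1024) (Upto.trans (mid := 512) (Upto.trans (mid := 256) (Upto.trans (mid := 128) ((Upto.of_pow vec_d_c0 (Nat.le_refl _)) : Upto _ _ 0 (0 + 2 ^ 7))
    ((Upto.of_pow vec_d_c1 (Nat.le_refl _)) : Upto _ _ 128 (128 + 2 ^ 7)))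
    (Upto.trans (mid := 384) ((Upto.of_pow vec_d_c2 (Nat.le_refl _)) : Upto _ _ 256 (256 + 2 ^ 7))
    ((Upto.of_pow vec_d_c3 (Nat.le_refl _)) : Upto _ _ 384 (384 + 2 ^ 7))))
    (Upto.trans (mid := 768) (Upto.trans (mid := 640) ((Upto.of_pow vec_d_c4 (Nat.le_refl _)) : Upto _ _ 512 (512 + 2 ^ 7))
    ((Upto.of_pow vec_d_c5 (Nat.le_refl _)) : Upto _ _ 640 (640 + 2 ^ 7)))
    (Upto.trans (mid := 896) ((Upto.of_pow vec_d_c6 (Nat.le_refl _)) : Upto _ _ 768 (768 + 2 ^ 7))
    ((Upto.of_pow vec_d_c7 (Nat.le_refl _)) : Upto _ _ 896 (896 + 2 ^ 7)))))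
    (Upto.trans (mid := 1536) (Upto.trans (mid := 1280) (Upto.trans (mid := 1152) ((Upto.of_pow vec_d_c8 (Nat.le_refl _)) : Upto _ _ 1024 (1024 + 2 ^ 7))
    ((Upto.of_pow vec_d_c9 (Nat.le_refl _)) : Upto _ _ 1152 (1152 + 2 ^ 7)))
    (Upto.trans (mid := 1408) ((Upto.of_pow vec_d_c10 (Nat.le_refl _)) : Upto _ _ 1280 (1280 + 2 ^ 7))
    ((Upto.of_pow vec_d_c11 (Nat.le_refl _)) : Upto _ _ 1408 (1408 + 2 ^ 7))))
    (Upto.trans (mid := 1792) (Upto.trans (mid := 1664) ((Upto.of_pow vec_d_c12 (Nat.le_refl _)) : Upto _ _ 1536 (1536 + 2 ^ 7))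
    ((Upto.of_pow vec_d_c13 (Nat.le_refl _)) : Upto _ _ 1664 (1664 + 2 ^ 7)))
    (Upto.trans (mid := 1920) ((Upto.of_pow vec_d_c14 (Nat.le_refl _)) : Upto _ _ 1792 (1792 + 2 ^ 7))
    ((Upto.of_pow vec_d_c15 (Nat.le_refl _)) : Upto _ _ 1920 (1920 + 2 ^ 7))))))
    (Upto.trans (mid := 3072) (Upto.trans (mid := 2560) (Upto.trans (mid := 2304) (Upto.trans (mid := 2176) ((Upto.of_pow vec_d_c16 (Nat.le_refl _)) : Upto _ _ 2048 (2048 + 2 ^ 7))
    ((Upto.of_pow vec_d_c17 (Nat.le_refl _)) : Upto _ _ 2176 (2176 + 2 ^ 7)))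
    (Upto.trans (mid := 2432) ((Upto.of_pow vec_d_c18 (Nat.le_refl _)) : Upto _ _ 2304 (2304 + 2 ^ 7))
    ((Upto.of_pow vec_d_c19 (Nat.le_refl _)) : Upto _ _ 2432 (2432 + 2 ^ 7))))
    (Upto.trans (mid := 2816) (Upto.trans (mid := 2688) ((Upto.of_pow vec_d_c20 (Nat.le_refl _)) : Upto _ _ 2560 (2560 + 2 ^ 7))
    ((Upto.of_pow vec_d_c21 (Nat.le_refl _)) : Upto _ _ 2688 (2688 + 2 ^ 7)))
    (Upto.trans (mid := 2944) ((Upto.of_pow vec_d_c22 (Nat.le_refl _)) : Upto _ _ 2816 (2816 + 2 ^ 7))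
    ((Upto.of_pow vec_d_c23 (Nat.le_refl _)) : Upto _ _ 2944 (2944 + 2 ^ 7)))))
    (Upto.trans (mid := 3584) (Upto.trans (mid := 3328) (Upto.trans (mid := 3200) ((Upto.of_pow vec_d_c24 (Nat.le_refl _)) : Upto _ _ 3072 (3072 + 2 ^ 7))
    ((Upto.of_pow vec_d_c25 (Nat.le_refl _)) : Upto _ _ 3200 (3200 + 2 ^ 7)))
    (Upto.trans (mid := 3456) ((Upto.of_pow vec_d_c26 (Nat.le_refl _)) : Upto _ _ 3328 (3328 + 2 ^ 7))
    ((Upto.of_pow vec_d_c27 (Nat.le_refl _)) : Upto _ _ 3456 (3456 + 2 ^ 7))))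
    (Upto.trans (mid := 3840) (Upto.trans (mid := 3712) ((Upto.of_pow vec_d_c28 (Nat.le_refl _)) : Upto _ _ 3584 (3584 + 2 ^ 7))
    ((Upto.of_pow vec_d_c29 (Nat.le_refl _)) : Upto _ _ 3712 (3712 + 2 ^ 7)))
    (Upto.trans (mid := 3968) ((Upto.of_pow vec_d_c30 (Nat.le_refl _)) : Upto _ _ 3840 (3840 + 2 ^ 7))
    ((Upto.of_pow vec_d_c31 (Nat.le_refl _)) : Upto _ _ 3968 (3968 + 2 ^ 7)))))))
    (by decide) (by decide)

theorem vec_e_c0 : allPow 4095 (vecStep .e) 7 0 = true := by decide +kernel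
theorem vec_e_c1 : allPow 4095 (vecStep .e) 7 128 = true := by decide +kernel
theorem vec_e_c2 : allPow 4095 (vecStep .e) 7 256 = true := by decide +kernel
theorem vec_e_c3 : allPow 4095 (vecStep .e) 7 384 = true := by decide +kernel
theorem vec_e_c4 : allPow 4095 (vecStep .e) 7 512 = true := by decide +kernel
theorem vec_e_c5 : allPow 4095 (vecStep .e) 7 640 = true := by decide +kernel
theorem vec_e_c6 : allPow 4095 (vecStep .e) 7 768 = true := by decide +kernel
theorem vec_e_c7 : allPow 4095 (vecStep .e) 7 896 = true := by decide +kernel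
theorem vec_e_c8 : allPow 4095 (vecStep .e) 7 1024 = true := by decide +kernel
theorem vec_e_c9 : allPow 4095 (vecStep .e) 7 1152 = true := by decide +kernel
theorem vec_e_c10 : allPow 4095 (vecStep .e) 7 1280 = true := by decide +kernel
theorem vec_e_c11 : allPow 4095 (vecStep .e) 7 1408 = true := by decide +kernel
theorem vec_e_c12 : allPow 4095 (vecStep .e) 7 1536 = true := by decide +kernel
theorem vec_e_c13 : allPow 4095 (vecStep .e) 7 1664 = true := by decide +kernel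
theorem vec_e_c14 : allPow 4095 (vecStep .e) 7 1792 = true := by decide +kernel
theorem vec_e_c15 : allPow 4095 (vecStep .e) 7 1920 = true := by decide +kernel
theorem vec_e_c16 : allPow 4095 (vecStep .e) 7 2048 = true := by decide +kernel
theorem vec_e_c17 : allPow 4095 (vecStep .e) 7 2176 = true := by decide +kernel
theorem vec_e_c18 : allPow 4095 (vecStep .e) 7 2304 = true := by decide +kernel
theorem vec_e_c19 : allPow 4095 (vecStep .e) 7 2432 = true := by decide +kernel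
theorem vec_e_c20 : allPow 4095 (vecStep .e) 7 2560 = true := by decide +kernel
theorem vec_e_c21 : allPow 4095 (vecStep .e) 7 2688 = true := by decide +kernel
theorem vec_e_c22 : allPow 4095 (vecStep .e) 7 2816 = true := by decide +kernel
theorem vec_e_c23 : allPow 4095 (vecStep .e) 7 2944 = true := by decide +kernel
theorem vec_e_c24 : allPow 4095 (vecStep .e) 7 3072 = true := by decide +kernel
theorem vec_e_c25 : allPow 4095 (vecStep .e) 7 3200 = true := by decide +kernel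
theorem vec_e_c26 : allPow 4095 (vecStep .e) 7 3328 = true := by decide +kernel
theorem vec_e_c27 : allPow 4095 (vecStep .e) 7 3456 = true := by decide +kernel
theorem vec_e_c28 : allPow 4095 (vecStep .e) 7 3584 = true := by decide +kernel
theorem vec_e_c29 : allPow 4095 (vecStep .e) 7 3712 = true := by decide +kernel
theorem vec_e_c30 : allPow 4095 (vecStep .e) 7 3840 = true := by decide +kernel
theorem vec_e_c31 : allPow 4095 (vecStep .e) 7 3968 = true := by decide +kernel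
theorem vec_e : allBelow 12 4095 (vecStep .e) = true :=
  allBelow_of_upto (hi := 4096)
    (Upto.trans (mid := 2048) (Upto.trans (mid := 1024) (Upto.trans (mid := 512) (Upto.trans (mid := 256) (Upto.trans (mid := 128) ((Upto.of_pow vec_e_c0 (Nat.le_refl _)) : Upto _ _ 0 (0 + 2 ^ 7))
    ((Upto.of_pow vec_e_c1 (Nat.le_refl _)) : Upto _ _ 128 (128 + 2 ^ 7)))
    (Upto.trans (mid := 384) ((Upto.of_pow vec_e_c2 (Nat.le_refl _)) : Upto _ _ 256 (256 + 2 ^ 7))
    ((Upto.of_pow vec_e_c3 (Nat.le_refl _)) : Upto _ _ 384 (384 + 2 ^ 7))))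
    (Upto.trans (mid := 768) (Upto.trans (mid := 640) ((Upto.of_pow vec_e_c4 (Nat.le_refl _)) : Upto _ _ 512 (512 + 2 ^ 7))
    ((Upto.of_pow vec_e_c5 (Nat.le_refl _)) : Upto _ _ 640 (640 + 2 ^ 7)))
    (Upto.trans (mid := 896) ((Upto.of_pow vec_e_c6 (Nat.le_refl _)) : Upto _ _ 768 (768 + 2 ^ 7))
    ((Upto.of_pow vec_e_c7 (Nat.le_refl _)) : Upto _ _ 896 (896 + 2 ^ 7)))))
    (Upto.trans (mid := 1536) (Upto.trans (mid := 1280) (Upto.trans (mid := 1152) ((Upto.of_pow vec_e_c8 (Nat.le_refl _)) : Upto _ _ 1024 (1024 + 2 ^ 7))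
    ((Upto.of_pow vec_e_c9 (Nat.le_refl _)) : Upto _ _ 1152 (1152 + 2 ^ 7)))
    (Upto.trans (mid := 1408) ((Upto.of_pow vec_e_c10 (Nat.le_refl _)) : Upto _ _ 1280 (1280 + 2 ^ 7))
    ((Upto.of_pow vec_e_c11 (Nat.le_refl _)) : Upto _ _ 1408 (1408 + 2 ^ 7))))
    (Upto.trans (mid := 1792) (Upto.trans (mid := 1664) ((Upto.of_pow vec_e_c12 (Nat.le_refl _)) : Upto _ _ 1536 (1536 + 2 ^ 7))
    ((Upto.of_pow vec_e_c13 (Nat.le_refl _)) : Upto _ _ 1664 (1664 + 2 ^ 7)))
    (Upto.trans (mid := 1920) ((Upto.of_pow vec_e_c14 (Nat.le_refl _)) : Upto _ _ 1792 (1792 + 2 ^ 7))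
    ((Upto.of_pow vec_e_c15 (Nat.le_refl _)) : Upto _ _ 1920 (1920 + 2 ^ 7))))))
    (Upto.trans (mid := 3072) (Upto.trans (mid := 2560) (Upto.trans (mid := 2304) (Upto.trans (mid := 2176) ((Upto.of_pow vec_e_c16 (Nat.le_refl _)) : Upto _ _ 2048 (2048 + 2 ^ 7))
    ((Upto.of_pow vec_e_c17 (Nat.le_refl _)) : Upto _ _ 2176 (2176 + 2 ^ 7)))
    (Upto.trans (mid := 2432) ((Upto.of_pow vec_e_c18 (Nat.le_refl _)) : Upto _ _ 2304 (2304 + 2 ^ 7))
    ((Upto.of_pow vec_e_c19 (Nat.le_refl _)) : Upto _ _ 2432 (2432 + 2 ^ 7))))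
    (Upto.trans (mid := 2816) (Upto.trans (mid := 2688) ((Upto.of_pow vec_e_c20 (Nat.le_refl _)) : Upto _ _ 2560 (2560 + 2 ^ 7))
    ((Upto.of_pow vec_e_c21 (Nat.le_refl _)) : Upto _ _ 2688 (2688 + 2 ^ 7)))
    (Upto.trans (mid := 2944) ((Upto.of_pow vec_e_c22 (Nat.le_refl _)) : Upto _ _ 2816 (2816 + 2 ^ 7))
    ((Upto.of_pow vec_e_c23 (Nat.le_refl _)) : Upto _ _ 2944 (2944 + 2 ^ 7)))))
    (Upto.trans (mid := 3584) (Upto.trans (mid := 3328) (Upto.trans (mid := 3200) ((Upto.of_pow vec_e_c24 (Nat.le_refl _)) : Upto _ _ 3072 (3072 + 2 ^ 7))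
    ((Upto.of_pow vec_e_c25 (Nat.le_refl _)) : Upto _ _ 3200 (3200 + 2 ^ 7)))
    (Upto.trans (mid := 3456) ((Upto.of_pow vec_e_c26 (Nat.le_refl _)) : Upto _ _ 3328 (3328 + 2 ^ 7))
    ((Upto.of_pow vec_e_c27 (Nat.le_refl _)) : Upto _ _ 3456 (3456 + 2 ^ 7))))
    (Upto.trans (mid := 3840) (Upto.trans (mid := 3712) ((Upto.of_pow vec_e_c28 (Nat.le_refl _)) : Upto _ _ 3584 (3584 + 2 ^ 7))
    ((Upto.of_pow vec_e_c29 (Nat.le_refl _)) : Upto _ _ 3712 (3712 + 2 ^ 7)))
    (Upto.trans (mid := 3968) ((Upto.of_pow vec_e_c30 (Nat.le_refl _)) : Upto _ _ 3840 (3840 + 2 ^ 7))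
    ((Upto.of_pow vec_e_c31 (Nat.le_refl _)) : Upto _ _ 3968 (3968 + 2 ^ 7)))))))
    (by decide) (by decide)

theorem vec_f_c0 : allPow 4095 (vecStep .f) 7 0 = true := by decide +kernel
theorem vec_f_c1 : allPow 4095 (vecStep .f) 7 128 = true := by decide +kernel
theorem vec_f_c2 : allPow 4095 (vecStep .f) 7 256 = true := by decide +kernel
theorem vec_f_c3 : allPow 4095 (vecStep .f) 7 384 = true := by decide +kernel
theorem vec_f_c4 : allPow 4095 (vecStep .f) 7 512 = true := by decide +kernel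
theorem vec_f_c5 : allPow 4095 (vecStep .f) 7 640 = true := by decide +kernel
theorem vec_f_c6 : allPow 4095 (vecStep .f) 7 768 = true := by decide +kernel
theorem vec_f_c7 : allPow 4095 (vecStep .f) 7 896 = true := by decide +kernel
theorem vec_f_c8 : allPow 4095 (vecStep .f) 7 1024 = true := by decide +kernel
theorem vec_f_c9 : allPow 4095 (vecStep .f) 7 1152 = true := by decide +kernel
theorem vec_f_c10 : allPow 4095 (vecStep .f) 7 1280 = true := by decide +kernel
theorem vec_f_c11 : allPow 4095 (vecStep .f) 7 1408 = true := by decide +kernel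
theorem vec_f_c12 : allPow 4095 (vecStep .f) 7 1536 = true := by decide +kernel
theorem vec_f_c13 : allPow 4095 (vecStep .f) 7 1664 = true := by decide +kernel
theorem vec_f_c14 : allPow 4095 (vecStep .f) 7 1792 = true := by decide +kernel
theorem vec_f_c15 : allPow 4095 (vecStep .f) 7 1920 = true := by decide +kernel
theorem vec_f_c16 : allPow 4095 (vecStep .f) 7 2048 = true := by decide +kernel
theorem vec_f_c17 : allPow 4095 (vecStep .f) 7 2176 = true := by decide +kernel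
theorem vec_f_c18 : allPow 4095 (vecStep .f) 7 2304 = true := by decide +kernel
theorem vec_f_c19 : allPow 4095 (vecStep .f) 7 2432 = true := by decide +kernel
theorem vec_f_c20 : allPow 4095 (vecStep .f) 7 2560 = true := by decide +kernel
theorem vec_f_c21 : allPow 4095 (vecStep .f) 7 2688 = true := by decide +kernel
theorem vec_f_c22 : allPow 4095 (vecStep .f) 7 2816 = true := by decide +kernel
theorem vec_f_c23 : allPow 4095 (vecStep .f) 7 2944 = true := by decide +kernel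
theorem vec_f_c24 : allPow 4095 (vecStep .f) 7 3072 = true := by decide +kernel
theorem vec_f_c25 : allPow 4095 (vecStep .f) 7 3200 = true := by decide +kernel
theorem vec_f_c26 : allPow 4095 (vecStep .f) 7 3328 = true := by decide +kernel
theorem vec_f_c27 : allPow 4095 (vecStep .f) 7 3456 = true := by decide +kernel
theorem vec_f_c28 : allPow 4095 (vecStep .f) 7 3584 = true := by decide +kernel
theorem vec_f_c29 : allPow 4095 (vecStep .f) 7 3712 = true := by decide +kernel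
theorem vec_f_c30 : allPow 4095 (vecStep .f) 7 3840 = true := by decide +kernel
theorem vec_f_c31 : allPow 4095 (vecStep .f) 7 3968 = true := by decide +kernel
theorem vec_f : allBelow 12 4095 (vecStep .f) = true :=
  allBelow_of_upto (hi := 4096)
    (Upto.trans (mid := 2048) (Upto.trans (mid := 1024) (Upto.trans (mid := 512) (Upto.trans (mid := 256) (Upto.trans (mid := 128) ((Upto.of_pow vec_f_c0 (Nat.le_refl _)) : Upto _ _ 0 (0 + 2 ^ 7))
    ((Upto.of_pow vec_f_c1 (Nat.le_refl _)) : Upto _ _ 128 (128 + 2 ^ 7)))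
    (Upto.trans (mid := 384) ((Upto.of_pow vec_f_c2 (Nat.le_refl _)) : Upto _ _ 256 (256 + 2 ^ 7))
    ((Upto.of_pow vec_f_c3 (Nat.le_refl _)) : Upto _ _ 384 (384 + 2 ^ 7))))
    (Upto.trans (mid := 768) (Upto.trans (mid := 640) ((Upto.of_pow vec_f_c4 (Nat.le_refl _)) : Upto _ _ 512 (512 + 2 ^ 7))
    ((Upto.of_pow vec_f_c5 (Nat.le_refl _)) : Upto _ _ 640 (640 + 2 ^ 7)))
    (Upto.trans (mid := 896) ((Upto.of_pow vec_f_c6 (Nat.le_refl _)) : Upto _ _ 768 (768 + 2 ^ 7))
    ((Upto.of_pow vec_f_c7 (Nat.le_refl _)) : Upto _ _ 896 (896 + 2 ^ 7)))))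
    (Upto.trans (mid := 1536) (Upto.trans (mid := 1280) (Upto.trans (mid := 1152) ((Upto.of_pow vec_f_c8 (Nat.le_refl _)) : Upto _ _ 1024 (1024 + 2 ^ 7))
    ((Upto.of_pow vec_f_c9 (Nat.le_refl _)) : Upto _ _ 1152 (1152 + 2 ^ 7)))
    (Upto.trans (mid := 1408) ((Upto.of_pow vec_f_c10 (Nat.le_refl _)) : Upto _ _ 1280 (1280 + 2 ^ 7))
    ((Upto.of_pow vec_f_c11 (Nat.le_refl _)) : Upto _ _ 1408 (1408 + 2 ^ 7))))
    (Upto.trans (mid := 1792) (Upto.trans (mid := 1664) ((Upto.of_pow vec_f_c12 (Nat.le_refl _)) : Upto _ _ 1536 (1536 + 2 ^ 7))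
    ((Upto.of_pow vec_f_c13 (Nat.le_refl _)) : Upto _ _ 1664 (1664 + 2 ^ 7)))
    (Upto.trans (mid := 1920) ((Upto.of_pow vec_f_c14 (Nat.le_refl _)) : Upto _ _ 1792 (1792 + 2 ^ 7))
    ((Upto.of_pow vec_f_c15 (Nat.le_refl _)) : Upto _ _ 1920 (1920 + 2 ^ 7))))))
    (Upto.trans (mid := 3072) (Upto.trans (mid := 2560) (Upto.trans (mid := 2304) (Upto.trans (mid := 2176) ((Upto.of_pow vec_f_c16 (Nat.le_refl _)) : Upto _ _ 2048 (2048 + 2 ^ 7))
    ((Upto.of_pow vec_f_c17 (Nat.le_refl _)) : Upto _ _ 2176 (2176 + 2 ^ 7)))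
    (Upto.trans (mid := 2432) ((Upto.of_pow vec_f_c18 (Nat.le_refl _)) : Upto _ _ 2304 (2304 + 2 ^ 7))
    ((Upto.of_pow vec_f_c19 (Nat.le_refl _)) : Upto _ _ 2432 (2432 + 2 ^ 7))))
    (Upto.trans (mid := 2816) (Upto.trans (mid := 2688) ((Upto.of_pow vec_f_c20 (Nat.le_refl _)) : Upto _ _ 2560 (2560 + 2 ^ 7))
    ((Upto.of_pow vec_f_c21 (Nat.le_refl _)) : Upto _ _ 2688 (2688 + 2 ^ 7)))
    (Upto.trans (mid := 2944) ((Upto.of_pow vec_f_c22 (Nat.le_refl _)) : Upto _ _ 2816 (2816 + 2 ^ 7))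
    ((Upto.of_pow vec_f_c23 (Nat.le_refl _)) : Upto _ _ 2944 (2944 + 2 ^ 7)))))
    (Upto.trans (mid := 3584) (Upto.trans (mid := 3328) (Upto.trans (mid := 3200) ((Upto.of_pow vec_f_c24 (Nat.le_refl _)) : Upto _ _ 3072 (3072 + 2 ^ 7))
    ((Upto.of_pow vec_f_c25 (Nat.le_refl _)) : Upto _ _ 3200 (3200 + 2 ^ 7)))
    (Upto.trans (mid := 3456) ((Upto.of_pow vec_f_c26 (Nat.le_refl _)) : Upto _ _ 3328 (3328 + 2 ^ 7))
    ((Upto.of_pow vec_f_c27 (Nat.le_refl _)) : Upto _ _ 3456 (3456 + 2 ^ 7))))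
    (Upto.trans (mid := 3840) (Upto.trans (mid := 3712) ((Upto.of_pow vec_f_c28 (Nat.le_refl _)) : Upto _ _ 3584 (3584 + 2 ^ 7))
    ((Upto.of_pow vec_f_c29 (Nat.le_refl _)) : Upto _ _ 3712 (3712 + 2 ^ 7)))
    (Upto.trans (mid := 3968) ((Upto.of_pow vec_f_c30 (Nat.le_refl _)) : Upto _ _ 3840 (3840 + 2 ^ 7))
    ((Upto.of_pow vec_f_c31 (Nat.le_refl _)) : Upto _ _ 3968 (3968 + 2 ^ 7)))))))
    (by decide) (by decide)

theorem vec_g_c0 : allPow 4095 (vecStep .g) 7 0 = true := by decide +kernel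
theorem vec_g_c1 : allPow 4095 (vecStep .g) 7 128 = true := by decide +kernel
theorem vec_g_c2 : allPow 4095 (vecStep .g) 7 256 = true := by decide +kernel
theorem vec_g_c3 : allPow 4095 (vecStep .g) 7 384 = true := by decide +kernel
theorem vec_g_c4 : allPow 4095 (vecStep .g) 7 512 = true := by decide +kernel
theorem vec_g_c5 : allPow 4095 (vecStep .g) 7 640 = true := by decide +kernel
theorem vec_g_c6 : allPow 4095 (vecStep .g) 7 768 = true := by decide +kernel
theorem vec_g_c7 : allPow 4095 (vecStep .g) 7 896 = true := by decide +kernel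
theorem vec_g_c8 : allPow 4095 (vecStep .g) 7 1024 = true := by decide +kernel
theorem vec_g_c9 : allPow 4095 (vecStep .g) 7 1152 = true := by decide +kernel
theorem vec_g_c10 : allPow 4095 (vecStep .g) 7 1280 = true := by decide +kernel
theorem vec_g_c11 : allPow 4095 (vecStep .g) 7 1408 = true := by decide +kernel
theorem vec_g_c12 : allPow 4095 (vecStep .g) 7 1536 = true := by decide +kernel
theorem vec_g_c13 : allPow 4095 (vecStep .g) 7 1664 = true := by decide +kernel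
theorem vec_g_c14 : allPow 4095 (vecStep .g) 7 1792 = true := by decide +kernel
theorem vec_g_c15 : allPow 4095 (vecStep .g) 7 1920 = true := by decide +kernel
theorem vec_g_c16 : allPow 4095 (vecStep .g) 7 2048 = true := by decide +kernel
theorem vec_g_c17 : allPow 4095 (vecStep .g) 7 2176 = true := by decide +kernel
theorem vec_g_c18 : allPow 4095 (vecStep .g) 7 2304 = true := by decide +kernel
theorem vec_g_c19 : allPow 4095 (vecStep .g) 7 2432 = true := by decide +kernel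
theorem vec_g_c20 : allPow 4095 (vecStep .g) 7 2560 = true := by decide +kernel
theorem vec_g_c21 : allPow 4095 (vecStep .g) 7 2688 = true := by decide +kernel
theorem vec_g_c22 : allPow 4095 (vecStep .g) 7 2816 = true := by decide +kernel
theorem vec_g_c23 : allPow 4095 (vecStep .g) 7 2944 = true := by decide +kernel
theorem vec_g_c24 : allPow 4095 (vecStep .g) 7 3072 = true := by decide +kernel
theorem vec_g_c25 : allPow 4095 (vecStep .g) 7 3200 = true := by decide +kernel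
theorem vec_g_c26 : allPow 4095 (vecStep .g) 7 3328 = true := by decide +kernel
theorem vec_g_c27 : allPow 4095 (vecStep .g) 7 3456 = true := by decide +kernel
theorem vec_g_c28 : allPow 4095 (vecStep .g) 7 3584 = true := by decide +kernel
theorem vec_g_c29 : allPow 4095 (vecStep .g) 7 3712 = true := by decide +kernel
theorem vec_g_c30 : allPow 4095 (vecStep .g) 7 3840 = true := by decide +kernel
theorem vec_g_c31 : allPow 4095 (vecStep .g) 7 3968 = true := by decide +kernel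
theorem vec_g : allBelow 12 4095 (vecStep .g) = true :=
  allBelow_of_upto (hi := 4096)
    (Upto.trans (mid := 2048) (Upto.trans (mid := 1024) (Upto.trans (mid := 512) (Upto.trans (mid := 256) (Upto.trans (mid := 128) ((Upto.of_pow vec_g_c0 (Nat.le_refl _)) : Upto _ _ 0 (0 + 2 ^ 7))
    ((Upto.of_pow vec_g_c1 (Nat.le_refl _)) : Upto _ _ 128 (128 + 2 ^ 7)))
    (Upto.trans (mid := 384) ((Upto.of_pow vec_g_c2 (Nat.le_refl _)) : Upto _ _ 256 (256 + 2 ^ 7))
    ((Upto.of_pow vec_g_c3 (Nat.le_refl _)) : Upto _ _ 384 (384 + 2 ^ 7))))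
    (Upto.trans (mid := 768) (Upto.trans (mid := 640) ((Upto.of_pow vec_g_c4 (Nat.le_refl _)) : Upto _ _ 512 (512 + 2 ^ 7))
    ((Upto.of_pow vec_g_c5 (Nat.le_refl _)) : Upto _ _ 640 (640 + 2 ^ 7)))
    (Upto.trans (mid := 896) ((Upto.of_pow vec_g_c6 (Nat.le_refl _)) : Upto _ _ 768 (768 + 2 ^ 7))
    ((Upto.of_pow vec_g_c7 (Nat.le_refl _)) : Upto _ _ 896 (896 + 2 ^ 7)))))
    (Upto.trans (mid := 1536) (Upto.trans (mid := 1280) (Upto.trans (mid := 1152) ((Upto.of_pow vec_g_c8 (Nat.le_refl _)) : Upto _ _ 1024 (1024 + 2 ^ 7))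
    ((Upto.of_pow vec_g_c9 (Nat.le_refl _)) : Upto _ _ 1152 (1152 + 2 ^ 7)))
    (Upto.trans (mid := 1408) ((Upto.of_pow vec_g_c10 (Nat.le_refl _)) : Upto _ _ 1280 (1280 + 2 ^ 7))
    ((Upto.of_pow vec_g_c11 (Nat.le_refl _)) : Upto _ _ 1408 (1408 + 2 ^ 7))))
    (Upto.trans (mid := 1792) (Upto.trans (mid := 1664) ((Upto.of_pow vec_g_c12 (Nat.le_refl _)) : Upto _ _ 1536 (1536 + 2 ^ 7))
    ((Upto.of_pow vec_g_c13 (Nat.le_refl _)) : Upto _ _ 1664 (1664 + 2 ^ 7)))
    (Upto.trans (mid := 1920) ((Upto.of_pow vec_g_c14 (Nat.le_refl _)) : Upto _ _ 1792 (1792 + 2 ^ 7))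
    ((Upto.of_pow vec_g_c15 (Nat.le_refl _)) : Upto _ _ 1920 (1920 + 2 ^ 7))))))
    (Upto.trans (mid := 3072) (Upto.trans (mid := 2560) (Upto.trans (mid := 2304) (Upto.trans (mid := 2176) ((Upto.of_pow vec_g_c16 (Nat.le_refl _)) : Upto _ _ 2048 (2048 + 2 ^ 7))
    ((Upto.of_pow vec_g_c17 (Nat.le_refl _)) : Upto _ _ 2176 (2176 + 2 ^ 7)))
    (Upto.trans (mid := 2432) ((Upto.of_pow vec_g_c18 (Nat.le_refl _)) : Upto _ _ 2304 (2304 + 2 ^ 7))
    ((Upto.of_pow vec_g_c19 (Nat.le_refl _)) : Upto _ _ 2432 (2432 + 2 ^ 7))))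
    (Upto.trans (mid := 2816) (Upto.trans (mid := 2688) ((Upto.of_pow vec_g_c20 (Nat.le_refl _)) : Upto _ _ 2560 (2560 + 2 ^ 7))
    ((Upto.of_pow vec_g_c21 (Nat.le_refl _)) : Upto _ _ 2688 (2688 + 2 ^ 7)))
    (Upto.trans (mid := 2944) ((Upto.of_pow vec_g_c22 (Nat.le_refl _)) : Upto _ _ 2816 (2816 + 2 ^ 7))
    ((Upto.of_pow vec_g_c23 (Nat.le_refl _)) : Upto _ _ 2944 (2944 + 2 ^ 7)))))
    (Upto.trans (mid := 3584) (Upto.trans (mid := 3328) (Upto.trans (mid := 3200) ((Upto.of_pow vec_g_c24 (Nat.le_refl _)) : Upto _ _ 3072 (3072 + 2 ^ 7))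
    ((Upto.of_pow vec_g_c25 (Nat.le_refl _)) : Upto _ _ 3200 (3200 + 2 ^ 7)))
    (Upto.trans (mid := 3456) ((Upto.of_pow vec_g_c26 (Nat.le_refl _)) : Upto _ _ 3328 (3328 + 2 ^ 7))
    ((Upto.of_pow vec_g_c27 (Nat.le_refl _)) : Upto _ _ 3456 (3456 + 2 ^ 7))))
    (Upto.trans (mid := 3840) (Upto.trans (mid := 3712) ((Upto.of_pow vec_g_c28 (Nat.le_refl _)) : Upto _ _ 3584 (3584 + 2 ^ 7))
    ((Upto.of_pow vec_g_c29 (Nat.le_refl _)) : Upto _ _ 3712 (3712 + 2 ^ 7)))
    (Upto.trans (mid := 3968) ((Upto.of_pow vec_g_c30 (Nat.le_refl _)) : Upto _ _ 3840 (3840 + 2 ^ 7))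
    ((Upto.of_pow vec_g_c31 (Nat.le_refl _)) : Upto _ _ 3968 (3968 + 2 ^ 7)))))))
    (by decide) (by decide)

theorem rels_ok_c0 : allPow 4095 (relsStep) 5 0 = true := by decide +kernel
theorem rels_ok_c1 : allPow 4095 (relsStep) 5 32 = true := by decide +kernel
theorem rels_ok_c2 : allPow 4095 (relsStep) 5 64 = true := by decide +kernel
theorem rels_ok_c3 : allPow 4095 (relsStep) 5 96 = true := by decide +kernel
theorem rels_ok_c4 : allPow 4095 (relsStep) 5 128 = true := by decide +kernel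
theorem rels_ok_c5 : allPow 4095 (relsStep) 5 160 = true := by decide +kernel
theorem rels_ok_c6 : allPow 4095 (relsStep) 5 192 = true := by decide +kernel
theorem rels_ok_c7 : allPow 4095 (relsStep) 5 224 = true := by decide +kernel
theorem rels_ok_c8 : allPow 4095 (relsStep) 5 256 = true := by decide +kernel
theorem rels_ok_c9 : allPow 4095 (relsStep) 5 288 = true := by decide +kernel
theorem rels_ok_c10 : allPow 4095 (relsStep) 5 320 = true := by decide +kernel
theorem rels_ok_c11 : allPow 4095 (relsStep) 5 352 = true := by decide +kernel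
theorem rels_ok_c12 : allPow 4095 (relsStep) 5 384 = true := by decide +kernel
theorem rels_ok_c13 : allPow 4095 (relsStep) 5 416 = true := by decide +kernel
theorem rels_ok_c14 : allPow 4095 (relsStep) 5 448 = true := by decide +kernel
theorem rels_ok_c15 : allPow 4095 (relsStep) 5 480 = true := by decide +kernel
theorem rels_ok_c16 : allPow 4095 (relsStep) 5 512 = true := by decide +kernel
theorem rels_ok_c17 : allPow 4095 (relsStep) 5 544 = true := by decide +kernel
theorem rels_ok_c18 : allPow 4095 (relsStep) 5 576 = true := by decide +kernel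
theorem rels_ok_c19 : allPow 4095 (relsStep) 5 608 = true := by decide +kernel
theorem rels_ok_c20 : allPow 4095 (relsStep) 5 640 = true := by decide +kernel
theorem rels_ok_c21 : allPow 4095 (relsStep) 5 672 = true := by decide +kernel
theorem rels_ok_c22 : allPow 4095 (relsStep) 5 704 = true := by decide +kernel
theorem rels_ok_c23 : allPow 4095 (relsStep) 5 736 = true := by decide +kernel
theorem rels_ok_c24 : allPow 4095 (relsStep) 5 768 = true := by decide +kernel
theorem rels_ok_c25 : allPow 4095 (relsStep) 5 800 = true := by decide +kernel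
theorem rels_ok_c26 : allPow 4095 (relsStep) 5 832 = true := by decide +kernel
theorem rels_ok_c27 : allPow 4095 (relsStep) 5 864 = true := by decide +kernel
theorem rels_ok_c28 : allPow 4095 (relsStep) 5 896 = true := by decide +kernel
theorem rels_ok_c29 : allPow 4095 (relsStep) 5 928 = true := by decide +kernel
theorem rels_ok_c30 : allPow 4095 (relsStep) 5 960 = true := by decide +kernel
theorem rels_ok_c31 : allPow 4095 (relsStep) 5 992 = true := by decide +kernel
theorem rels_ok_c32 : allPow 4095 (relsStep) 5 1024 = true := by decide +kernel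
theorem rels_ok_c33 : allPow 4095 (relsStep) 5 1056 = true := by decide +kernel
theorem rels_ok_c34 : allPow 4095 (relsStep) 5 1088 = true := by decide +kernel
theorem rels_ok_c35 : allPow 4095 (relsStep) 5 1120 = true := by decide +kernel
theorem rels_ok_c36 : allPow 4095 (relsStep) 5 1152 = true := by decide +kernel
theorem rels_ok_c37 : allPow 4095 (relsStep) 5 1184 = true := by decide +kernel
theorem rels_ok_c38 : allPow 4095 (relsStep) 5 1216 = true := by decide +kernel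
theorem rels_ok_c39 : allPow 4095 (relsStep) 5 1248 = true := by decide +kernel
theorem rels_ok_c40 : allPow 4095 (relsStep) 5 1280 = true := by decide +kernel
theorem rels_ok_c41 : allPow 4095 (relsStep) 5 1312 = true := by decide +kernel
theorem rels_ok_c42 : allPow 4095 (relsStep) 5 1344 = true := by decide +kernel
theorem rels_ok_c43 : allPow 4095 (relsStep) 5 1376 = true := by decide +kernel
theorem rels_ok_c44 : allPow 4095 (relsStep) 5 1408 = true := by decide +kernel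
theorem rels_ok_c45 : allPow 4095 (relsStep) 5 1440 = true := by decide +kernel
theorem rels_ok_c46 : allPow 4095 (relsStep) 5 1472 = true := by decide +kernel
theorem rels_ok_c47 : allPow 4095 (relsStep) 5 1504 = true := by decide +kernel
theorem rels_ok_c48 : allPow 4095 (relsStep) 5 1536 = true := by decide +kernel
theorem rels_ok_c49 : allPow 4095 (relsStep) 5 1568 = true := by decide +kernel
theorem rels_ok_c50 : allPow 4095 (relsStep) 5 1600 = true := by decide +kernel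
theorem rels_ok_c51 : allPow 4095 (relsStep) 5 1632 = true := by decide +kernel
theorem rels_ok_c52 : allPow 4095 (relsStep) 5 1664 = true := by decide +kernel
theorem rels_ok_c53 : allPow 4095 (relsStep) 5 1696 = true := by decide +kernel
theorem rels_ok_c54 : allPow 4095 (relsStep) 5 1728 = true := by decide +kernel
theorem rels_ok_c55 : allPow 4095 (relsStep) 5 1760 = true := by decide +kernel
theorem rels_ok_c56 : allPow 4095 (relsStep) 5 1792 = true := by decide +kernel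
theorem rels_ok_c57 : allPow 4095 (relsStep) 5 1824 = true := by decide +kernel
theorem rels_ok_c58 : allPow 4095 (relsStep) 5 1856 = true := by decide +kernel
theorem rels_ok_c59 : allPow 4095 (relsStep) 5 1888 = true := by decide +kernel
theorem rels_ok_c60 : allPow 4095 (relsStep) 5 1920 = true := by decide +kernel
theorem rels_ok_c61 : allPow 4095 (relsStep) 5 1952 = true := by decide +kernel
theorem rels_ok_c62 : allPow 4095 (relsStep) 5 1984 = true := by decide +kernel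
theorem rels_ok_c63 : allPow 4095 (relsStep) 5 2016 = true := by decide +kernel
theorem rels_ok_c64 : allPow 4095 (relsStep) 5 2048 = true := by decide +kernel
theorem rels_ok_c65 : allPow 4095 (relsStep) 5 2080 = true := by decide +kernel
theorem rels_ok_c66 : allPow 4095 (relsStep) 5 2112 = true := by decide +kernel
theorem rels_ok_c67 : allPow 4095 (relsStep) 5 2144 = true := by decide +kernel
theorem rels_ok_c68 : allPow 4095 (relsStep) 5 2176 = true := by decide +kernel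
theorem rels_ok_c69 : allPow 4095 (relsStep) 5 2208 = true := by decide +kernel
theorem rels_ok_c70 : allPow 4095 (relsStep) 5 2240 = true := by decide +kernel
theorem rels_ok_c71 : allPow 4095 (relsStep) 5 2272 = true := by decide +kernel
theorem rels_ok_c72 : allPow 4095 (relsStep) 5 2304 = true := by decide +kernel
theorem rels_ok_c73 : allPow 4095 (relsStep) 5 2336 = true := by decide +kernel
theorem rels_ok_c74 : allPow 4095 (relsStep) 5 2368 = true := by decide +kernel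
theorem rels_ok_c75 : allPow 4095 (relsStep) 5 2400 = true := by decide +kernel
theorem rels_ok_c76 : allPow 4095 (relsStep) 5 2432 = true := by decide +kernel
theorem rels_ok_c77 : allPow 4095 (relsStep) 5 2464 = true := by decide +kernel
theorem rels_ok_c78 : allPow 4095 (relsStep) 5 2496 = true := by decide +kernel
theorem rels_ok_c79 : allPow 4095 (relsStep) 5 2528 = true := by decide +kernel
theorem rels_ok_c80 : allPow 4095 (relsStep) 5 2560 = true := by decide +kernel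
theorem rels_ok_c81 : allPow 4095 (relsStep) 5 2592 = true := by decide +kernel
theorem rels_ok_c82 : allPow 4095 (relsStep) 5 2624 = true := by decide +kernel
theorem rels_ok_c83 : allPow 4095 (relsStep) 5 2656 = true := by decide +kernel
theorem rels_ok_c84 : allPow 4095 (relsStep) 5 2688 = true := by decide +kernel
theorem rels_ok_c85 : allPow 4095 (relsStep) 5 2720 = true := by decide +kernel
theorem rels_ok_c86 : allPow 4095 (relsStep) 5 2752 = true := by decide +kernel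
theorem rels_ok_c87 : allPow 4095 (relsStep) 5 2784 = true := by decide +kernel
theorem rels_ok_c88 : allPow 4095 (relsStep) 5 2816 = true := by decide +kernel
theorem rels_ok_c89 : allPow 4095 (relsStep) 5 2848 = true := by decide +kernel
theorem rels_ok_c90 : allPow 4095 (relsStep) 5 2880 = true := by decide +kernel
theorem rels_ok_c91 : allPow 4095 (relsStep) 5 2912 = true := by decide +kernel
theorem rels_ok_c92 : allPow 4095 (relsStep) 5 2944 = true := by decide +kernel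
theorem rels_ok_c93 : allPow 4095 (relsStep) 5 2976 = true := by decide +kernel
theorem rels_ok_c94 : allPow 4095 (relsStep) 5 3008 = true := by decide +kernel
theorem rels_ok_c95 : allPow 4095 (relsStep) 5 3040 = true := by decide +kernel
theorem rels_ok_c96 : allPow 4095 (relsStep) 5 3072 = true := by decide +kernel
theorem rels_ok_c97 : allPow 4095 (relsStep) 5 3104 = true := by decide +kernel
theorem rels_ok_c98 : allPow 4095 (relsStep) 5 3136 = true := by decide +kernel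
theorem rels_ok_c99 : allPow 4095 (relsStep) 5 3168 = true := by decide +kernel
theorem rels_ok_c100 : allPow 4095 (relsStep) 5 3200 = true := by decide +kernel
theorem rels_ok_c101 : allPow 4095 (relsStep) 5 3232 = true := by decide +kernel
theorem rels_ok_c102 : allPow 4095 (relsStep) 5 3264 = true := by decide +kernel
theorem rels_ok_c103 : allPow 4095 (relsStep) 5 3296 = true := by decide +kernel
theorem rels_ok_c104 : allPow 4095 (relsStep) 5 3328 = true := by decide +kernel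
theorem rels_ok_c105 : allPow 4095 (relsStep) 5 3360 = true := by decide +kernel
theorem rels_ok_c106 : allPow 4095 (relsStep) 5 3392 = true := by decide +kernel
theorem rels_ok_c107 : allPow 4095 (relsStep) 5 3424 = true := by decide +kernel
theorem rels_ok_c108 : allPow 4095 (relsStep) 5 3456 = true := by decide +kernel
theorem rels_ok_c109 : allPow 4095 (relsStep) 5 3488 = true := by decide +kernel
theorem rels_ok_c110 : allPow 4095 (relsStep) 5 3520 = true := by decide +kernel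
theorem rels_ok_c111 : allPow 4095 (relsStep) 5 3552 = true := by decide +kernel
theorem rels_ok_c112 : allPow 4095 (relsStep) 5 3584 = true := by decide +kernel
theorem rels_ok_c113 : allPow 4095 (relsStep) 5 3616 = true := by decide +kernel
theorem rels_ok_c114 : allPow 4095 (relsStep) 5 3648 = true := by decide +kernel
theorem rels_ok_c115 : allPow 4095 (relsStep) 5 3680 = true := by decide +kernel
theorem rels_ok_c116 : allPow 4095 (relsStep) 5 3712 = true := by decide +kernel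
theorem rels_ok_c117 : allPow 4095 (relsStep) 5 3744 = true := by decide +kernel
theorem rels_ok_c118 : allPow 4095 (relsStep) 5 3776 = true := by decide +kernel
theorem rels_ok_c119 : allPow 4095 (relsStep) 5 3808 = true := by decide +kernel
theorem rels_ok_c120 : allPow 4095 (relsStep) 5 3840 = true := by decide +kernel
theorem rels_ok_c121 : allPow 4095 (relsStep) 5 3872 = true := by decide +kernel
theorem rels_ok_c122 : allPow 4095 (relsStep) 5 3904 = true := by decide +kernel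
theorem rels_ok_c123 : allPow 4095 (relsStep) 5 3936 = true := by decide +kernel
theorem rels_ok_c124 : allPow 4095 (relsStep) 5 3968 = true := by decide +kernel
theorem rels_ok_c125 : allPow 4095 (relsStep) 5 4000 = true := by decide +kernel
theorem rels_ok_c126 : allPow 4095 (relsStep) 5 4032 = true := by decide +kernel
theorem rels_ok_c127 : allPow 4095 (relsStep) 5 4064 = true := by decide +kernel
theorem rels_ok : allBelow 12 4095 (relsStep) = true :=
  allBelow_of_upto (hi := 4096)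
    (Upto.trans (mid := 2048) (Upto.trans (mid := 1024) (Upto.trans (mid := 512) (Upto.trans (mid := 256) (Upto.trans (mid := 128) (Upto.trans (mid := 64) (Upto.trans (mid := 32) ((Upto.of_pow rels_ok_c0 (Nat.le_refl _)) : Upto _ _ 0 (0 + 2 ^ 5))
    ((Upto.of_pow rels_ok_c1 (Nat.le_refl _)) : Upto _ _ 32 (32 + 2 ^ 5)))
    (Upto.trans (mid := 96) ((Upto.of_pow rels_ok_c2 (Nat.le_refl _)) : Upto _ _ 64 (64 + 2 ^ 5))
    ((Upto.of_pow rels_ok_c3 (Nat.le_refl _)) : Upto _ _ 96 (96 + 2 ^ 5))))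
    (Upto.trans (mid := 192) (Upto.trans (mid := 160) ((Upto.of_pow rels_ok_c4 (Nat.le_refl _)) : Upto _ _ 128 (128 + 2 ^ 5))
    ((Upto.of_pow rels_ok_c5 (Nat.le_refl _)) : Upto _ _ 160 (160 + 2 ^ 5)))
    (Upto.trans (mid := 224) ((Upto.of_pow rels_ok_c6 (Nat.le_refl _)) : Upto _ _ 192 (192 + 2 ^ 5))
    ((Upto.of_pow rels_ok_c7 (Nat.le_refl _)) : Upto _ _ 224 (224 + 2 ^ 5)))))
    (Upto.trans (mid := 384) (Upto.trans (mid := 320) (Upto.trans (mid := 288) ((Upto.of_pow rels_ok_c8 (Nat.le_refl _)) : Upto _ _ 256 (256 + 2 ^ 5))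
    ((Upto.of_pow rels_ok_c9 (Nat.le_refl _)) : Upto _ _ 288 (288 + 2 ^ 5)))
    (Upto.trans (mid := 352) ((Upto.of_pow rels_ok_c10 (Nat.le_refl _)) : Upto _ _ 320 (320 + 2 ^ 5))
    ((Upto.of_pow rels_ok_c11 (Nat.le_refl _)) : Upto _ _ 352 (352 + 2 ^ 5))))
    (Upto.trans (mid := 448) (Upto.trans (mid := 416) ((Upto.of_pow rels_ok_c12 (Nat.le_refl _)) : Upto _ _ 384 (384 + 2 ^ 5))
    ((Upto.of_pow rels_ok_c13 (Nat.le_refl _)) : Upto _ _ 416 (416 + 2 ^ 5)))
    (Upto.trans (mid := 480) ((Upto.of_pow rels_ok_c14 (Nat.le_refl _)) : Upto _ _ 448 (448 + 2 ^ 5))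
    ((Upto.of_pow rels_ok_c15 (Nat.le_refl _)) : Upto _ _ 480 (480 + 2 ^ 5))))))
    (Upto.trans (mid := 768) (Upto.trans (mid := 640) (Upto.trans (mid := 576) (Upto.trans (mid := 544) ((Upto.of_pow rels_ok_c16 (Nat.le_refl _)) : Upto _ _ 512 (512 + 2 ^ 5))
    ((Upto.of_pow rels_ok_c17 (Nat.le_refl _)) : Upto _ _ 544 (544 + 2 ^ 5)))
    (Upto.trans (mid := 608) ((Upto.of_pow rels_ok_c18 (Nat.le_refl _)) : Upto _ _ 576 (576 + 2 ^ 5))
    ((Upto.of_pow rels_ok_c19 (Nat.le_refl _)) : Upto _ _ 608 (608 + 2 ^ 5))))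
    (Upto.trans (mid := 704) (Upto.trans (mid := 672) ((Upto.of_pow rels_ok_c20 (Nat.le_refl _)) : Upto _ _ 640 (640 + 2 ^ 5))
    ((Upto.of_pow rels_ok_c21 (Nat.le_refl _)) : Upto _ _ 672 (672 + 2 ^ 5)))
    (Upto.trans (mid := 736) ((Upto.of_pow rels_ok_c22 (Nat.le_refl _)) : Upto _ _ 704 (704 + 2 ^ 5))
    ((Upto.of_pow rels_ok_c23 (Nat.le_refl _)) : Upto _ _ 736 (736 + 2 ^ 5)))))
    (Upto.trans (mid := 896) (Upto.trans (mid := 832) (Upto.trans (mid := 800) ((Upto.of_pow rels_ok_c24 (Nat.le_refl _)) : Upto _ _ 768 (768 + 2 ^ 5))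
    ((Upto.of_pow rels_ok_c25 (Nat.le_refl _)) : Upto _ _ 800 (800 + 2 ^ 5)))
    (Upto.trans (mid := 864) ((Upto.of_pow rels_ok_c26 (Nat.le_refl _)) : Upto _ _ 832 (832 + 2 ^ 5))
    ((Upto.of_pow rels_ok_c27 (Nat.le_refl _)) : Upto _ _ 864 (864 + 2 ^ 5))))
    (Upto.trans (mid := 960) (Upto.trans (mid := 928) ((Upto.of_pow rels_ok_c28 (Nat.le_refl _)) : Upto _ _ 896 (896 + 2 ^ 5))
    ((Upto.of_pow rels_ok_c29 (Nat.le_refl _)) : Upto _ _ 928 (928 + 2 ^ 5)))
    (Upto.trans (mid := 992) ((Upto.of_pow rels_ok_c30 (Nat.le_refl _)) : Upto _ _ 960 (960 + 2 ^ 5))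
    ((Upto.of_pow rels_ok_c31 (Nat.le_refl _)) : Upto _ _ 992 (992 + 2 ^ 5)))))))
    (Upto.trans (mid := 1536) (Upto.trans (mid := 1280) (Upto.trans (mid := 1152) (Upto.trans (mid := 1088) (Upto.trans (mid := 1056) ((Upto.of_pow rels_ok_c32 (Nat.le_refl _)) : Upto _ _ 1024 (1024 + 2 ^ 5))
    ((Upto.of_pow rels_ok_c33 (Nat.le_refl _)) : Upto _ _ 1056 (1056 + 2 ^ 5)))
    (Upto.trans (mid := 1120) ((Upto.of_pow rels_ok_c34 (Nat.le_refl _)) : Upto _ _ 1088 (1088 + 2 ^ 5))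
    ((Upto.of_pow rels_ok_c35 (Nat.le_refl _)) : Upto _ _ 1120 (1120 + 2 ^ 5))))
    (Upto.trans (mid := 1216) (Upto.trans (mid := 1184) ((Upto.of_pow rels_ok_c36 (Nat.le_refl _)) : Upto _ _ 1152 (1152 + 2 ^ 5))
    ((Upto.of_pow rels_ok_c37 (Nat.le_refl _)) : Upto _ _ 1184 (1184 + 2 ^ 5)))
    (Upto.trans (mid := 1248) ((Upto.of_pow rels_ok_c38 (Nat.le_refl _)) : Upto _ _ 1216 (1216 + 2 ^ 5))
    ((Upto.of_pow rels_ok_c39 (Nat.le_refl _)) : Upto _ _ 1248 (1248 + 2 ^ 5)))))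
    (Upto.trans (mid := 1408) (Upto.trans (mid := 1344) (Upto.trans (mid := 1312) ((Upto.of_pow rels_ok_c40 (Nat.le_refl _)) : Upto _ _ 1280 (1280 + 2 ^ 5))
    ((Upto.of_pow rels_ok_c41 (Nat.le_refl _)) : Upto _ _ 1312 (1312 + 2 ^ 5)))
    (Upto.trans (mid := 1376) ((Upto.of_pow rels_ok_c42 (Nat.le_refl _)) : Upto _ _ 1344 (1344 + 2 ^ 5))
    ((Upto.of_pow rels_ok_c43 (Nat.le_refl _)) : Upto _ _ 1376 (1376 + 2 ^ 5))))
    (Upto.trans (mid := 1472) (Upto.trans (mid := 1440) ((Upto.of_pow rels_ok_c44 (Nat.le_refl _)) : Upto _ _ 1408 (1408 + 2 ^ 5))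
    ((Upto.of_pow rels_ok_c45 (Nat.le_refl _)) : Upto _ _ 1440 (1440 + 2 ^ 5)))
    (Upto.trans (mid := 1504) ((Upto.of_pow rels_ok_c46 (Nat.le_refl _)) : Upto _ _ 1472 (1472 + 2 ^ 5))
    ((Upto.of_pow rels_ok_c47 (Nat.le_refl _)) : Upto _ _ 1504 (1504 + 2 ^ 5))))))
    (Upto.trans (mid := 1792) (Upto.trans (mid := 1664) (Upto.trans (mid := 1600) (Upto.trans (mid := 1568) ((Upto.of_pow rels_ok_c48 (Nat.le_refl _)) : Upto _ _ 1536 (1536 + 2 ^ 5))
    ((Upto.of_pow rels_ok_c49 (Nat.le_refl _)) : Upto _ _ 1568 (1568 + 2 ^ 5)))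
    (Upto.trans (mid := 1632) ((Upto.of_pow rels_ok_c50 (Nat.le_refl _)) : Upto _ _ 1600 (1600 + 2 ^ 5))
    ((Upto.of_pow rels_ok_c51 (Nat.le_refl _)) : Upto _ _ 1632 (1632 + 2 ^ 5))))
    (Upto.trans (mid := 1728) (Upto.trans (mid := 1696) ((Upto.of_pow rels_ok_c52 (Nat.le_refl _)) : Upto _ _ 1664 (1664 + 2 ^ 5))
    ((Upto.of_pow rels_ok_c53 (Nat.le_refl _)) : Upto _ _ 1696 (1696 + 2 ^ 5)))
    (Upto.trans (mid := 1760) ((Upto.of_pow rels_ok_c54 (Nat.le_refl _)) : Upto _ _ 1728 (1728 + 2 ^ 5))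
    ((Upto.of_pow rels_ok_c55 (Nat.le_refl _)) : Upto _ _ 1760 (1760 + 2 ^ 5)))))
    (Upto.trans (mid := 1920) (Upto.trans (mid := 1856) (Upto.trans (mid := 1824) ((Upto.of_pow rels_ok_c56 (Nat.le_refl _)) : Upto _ _ 1792 (1792 + 2 ^ 5))
    ((Upto.of_pow rels_ok_c57 (Nat.le_refl _)) : Upto _ _ 1824 (1824 + 2 ^ 5)))
    (Upto.trans (mid := 1888) ((Upto.of_pow rels_ok_c58 (Nat.le_refl _)) : Upto _ _ 1856 (1856 + 2 ^ 5))
    ((Upto.of_pow rels_ok_c59 (Nat.le_refl _)) : Upto _ _ 1888 (1888 + 2 ^ 5))))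
    (Upto.trans (mid := 1984) (Upto.trans (mid := 1952) ((Upto.of_pow rels_ok_c60 (Nat.le_refl _)) : Upto _ _ 1920 (1920 + 2 ^ 5))
    ((Upto.of_pow rels_ok_c61 (Nat.le_refl _)) : Upto _ _ 1952 (1952 + 2 ^ 5)))
    (Upto.trans (mid := 2016) ((Upto.of_pow rels_ok_c62 (Nat.le_refl _)) : Upto _ _ 1984 (1984 + 2 ^ 5))
    ((Upto.of_pow rels_ok_c63 (Nat.le_refl _)) : Upto _ _ 2016 (2016 + 2 ^ 5))))))))
    (Upto.trans (mid := 3072) (Upto.trans (mid := 2560) (Upto.trans (mid := 2304) (Upto.trans (mid := 2176) (Upto.trans (mid := 2112) (Upto.trans (mid := 2080) ((Upto.of_pow rels_ok_c64 (Nat.le_refl _)) : Upto _ _ 2048 (2048 + 2 ^ 5))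
    ((Upto.of_pow rels_ok_c65 (Nat.le_refl _)) : Upto _ _ 2080 (2080 + 2 ^ 5)))
    (Upto.trans (mid := 2144) ((Upto.of_pow rels_ok_c66 (Nat.le_refl _)) : Upto _ _ 2112 (2112 + 2 ^ 5))
    ((Upto.of_pow rels_ok_c67 (Nat.le_refl _)) : Upto _ _ 2144 (2144 + 2 ^ 5))))
    (Upto.trans (mid := 2240) (Upto.trans (mid := 2208) ((Upto.of_pow rels_ok_c68 (Nat.le_refl _)) : Upto _ _ 2176 (2176 + 2 ^ 5))
    ((Upto.of_pow rels_ok_c69 (Nat.le_refl _)) : Upto _ _ 2208 (2208 + 2 ^ 5)))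
    (Upto.trans (mid := 2272) ((Upto.of_pow rels_ok_c70 (Nat.le_refl _)) : Upto _ _ 2240 (2240 + 2 ^ 5))
    ((Upto.of_pow rels_ok_c71 (Nat.le_refl _)) : Upto _ _ 2272 (2272 + 2 ^ 5)))))
    (Upto.trans (mid := 2432) (Upto.trans (mid := 2368) (Upto.trans (mid := 2336) ((Upto.of_pow rels_ok_c72 (Nat.le_refl _)) : Upto _ _ 2304 (2304 + 2 ^ 5))
    ((Upto.of_pow rels_ok_c73 (Nat.le_refl _)) : Upto _ _ 2336 (2336 + 2 ^ 5)))
    (Upto.trans (mid := 2400) ((Upto.of_pow rels_ok_c74 (Nat.le_refl _)) : Upto _ _ 2368 (2368 + 2 ^ 5))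
    ((Upto.of_pow rels_ok_c75 (Nat.le_refl _)) : Upto _ _ 2400 (2400 + 2 ^ 5))))
    (Upto.trans (mid := 2496) (Upto.trans (mid := 2464) ((Upto.of_pow rels_ok_c76 (Nat.le_refl _)) : Upto _ _ 2432 (2432 + 2 ^ 5))
    ((Upto.of_pow rels_ok_c77 (Nat.le_refl _)) : Upto _ _ 2464 (2464 + 2 ^ 5)))
    (Upto.trans (mid := 2528) ((Upto.of_pow rels_ok_c78 (Nat.le_refl _)) : Upto _ _ 2496 (2496 + 2 ^ 5))
    ((Upto.of_pow rels_ok_c79 (Nat.le_refl _)) : Upto _ _ 2528 (2528 + 2 ^ 5))))))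
    (Upto.trans (mid := 2816) (Upto.trans (mid := 2688) (Upto.trans (mid := 2624) (Upto.trans (mid := 2592) ((Upto.of_pow rels_ok_c80 (Nat.le_refl _)) : Upto _ _ 2560 (2560 + 2 ^ 5))
    ((Upto.of_pow rels_ok_c81 (Nat.le_refl _)) : Upto _ _ 2592 (2592 + 2 ^ 5)))
    (Upto.trans (mid := 2656) ((Upto.of_pow rels_ok_c82 (Nat.le_refl _)) : Upto _ _ 2624 (2624 + 2 ^ 5))
    ((Upto.of_pow rels_ok_c83 (Nat.le_refl _)) : Upto _ _ 2656 (2656 + 2 ^ 5))))
    (Upto.trans (mid := 2752) (Upto.trans (mid := 2720) ((Upto.of_pow rels_ok_c84 (Nat.le_refl _)) : Upto _ _ 2688 (2688 + 2 ^ 5))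
    ((Upto.of_pow rels_ok_c85 (Nat.le_refl _)) : Upto _ _ 2720 (2720 + 2 ^ 5)))
    (Upto.trans (mid := 2784) ((Upto.of_pow rels_ok_c86 (Nat.le_refl _)) : Upto _ _ 2752 (2752 + 2 ^ 5))
    ((Upto.of_pow rels_ok_c87 (Nat.le_refl _)) : Upto _ _ 2784 (2784 + 2 ^ 5)))))
    (Upto.trans (mid := 2944) (Upto.trans (mid := 2880) (Upto.trans (mid := 2848) ((Upto.of_pow rels_ok_c88 (Nat.le_refl _)) : Upto _ _ 2816 (2816 + 2 ^ 5))
    ((Upto.of_pow rels_ok_c89 (Nat.le_refl _)) : Upto _ _ 2848 (2848 + 2 ^ 5)))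
    (Upto.trans (mid := 2912) ((Upto.of_pow rels_ok_c90 (Nat.le_refl _)) : Upto _ _ 2880 (2880 + 2 ^ 5))
    ((Upto.of_pow rels_ok_c91 (Nat.le_refl _)) : Upto _ _ 2912 (2912 + 2 ^ 5))))
    (Upto.trans (mid := 3008) (Upto.trans (mid := 2976) ((Upto.of_pow rels_ok_c92 (Nat.le_refl _)) : Upto _ _ 2944 (2944 + 2 ^ 5))
    ((Upto.of_pow rels_ok_c93 (Nat.le_refl _)) : Upto _ _ 2976 (2976 + 2 ^ 5)))
    (Upto.trans (mid := 3040) ((Upto.of_pow rels_ok_c94 (Nat.le_refl _)) : Upto _ _ 3008 (3008 + 2 ^ 5))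
    ((Upto.of_pow rels_ok_c95 (Nat.le_refl _)) : Upto _ _ 3040 (3040 + 2 ^ 5)))))))
    (Upto.trans (mid := 3584) (Upto.trans (mid := 3328) (Upto.trans (mid := 3200) (Upto.trans (mid := 3136) (Upto.trans (mid := 3104) ((Upto.of_pow rels_ok_c96 (Nat.le_refl _)) : Upto _ _ 3072 (3072 + 2 ^ 5))
    ((Upto.of_pow rels_ok_c97 (Nat.le_refl _)) : Upto _ _ 3104 (3104 + 2 ^ 5)))
    (Upto.trans (mid := 3168) ((Upto.of_pow rels_ok_c98 (Nat.le_refl _)) : Upto _ _ 3136 (3136 + 2 ^ 5))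
    ((Upto.of_pow rels_ok_c99 (Nat.le_refl _)) : Upto _ _ 3168 (3168 + 2 ^ 5))))
    (Upto.trans (mid := 3264) (Upto.trans (mid := 3232) ((Upto.of_pow rels_ok_c100 (Nat.le_refl _)) : Upto _ _ 3200 (3200 + 2 ^ 5))
    ((Upto.of_pow rels_ok_c101 (Nat.le_refl _)) : Upto _ _ 3232 (3232 + 2 ^ 5)))
    (Upto.trans (mid := 3296) ((Upto.of_pow rels_ok_c102 (Nat.le_refl _)) : Upto _ _ 3264 (3264 + 2 ^ 5))
    ((Upto.of_pow rels_ok_c103 (Nat.le_refl _)) : Upto _ _ 3296 (3296 + 2 ^ 5)))))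
    (Upto.trans (mid := 3456) (Upto.trans (mid := 3392) (Upto.trans (mid := 3360) ((Upto.of_pow rels_ok_c104 (Nat.le_refl _)) : Upto _ _ 3328 (3328 + 2 ^ 5))
    ((Upto.of_pow rels_ok_c105 (Nat.le_refl _)) : Upto _ _ 3360 (3360 + 2 ^ 5)))
    (Upto.trans (mid := 3424) ((Upto.of_pow rels_ok_c106 (Nat.le_refl _)) : Upto _ _ 3392 (3392 + 2 ^ 5))
    ((Upto.of_pow rels_ok_c107 (Nat.le_refl _)) : Upto _ _ 3424 (3424 + 2 ^ 5))))
    (Upto.trans (mid := 3520) (Upto.trans (mid := 3488) ((Upto.of_pow rels_ok_c108 (Nat.le_refl _)) : Upto _ _ 3456 (3456 + 2 ^ 5))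
    ((Upto.of_pow rels_ok_c109 (Nat.le_refl _)) : Upto _ _ 3488 (3488 + 2 ^ 5)))
    (Upto.trans (mid := 3552) ((Upto.of_pow rels_ok_c110 (Nat.le_refl _)) : Upto _ _ 3520 (3520 + 2 ^ 5))
    ((Upto.of_pow rels_ok_c111 (Nat.le_refl _)) : Upto _ _ 3552 (3552 + 2 ^ 5))))))
    (Upto.trans (mid := 3840) (Upto.trans (mid := 3712) (Upto.trans (mid := 3648) (Upto.trans (mid := 3616) ((Upto.of_pow rels_ok_c112 (Nat.le_refl _)) : Upto _ _ 3584 (3584 + 2 ^ 5))
    ((Upto.of_pow rels_ok_c113 (Nat.le_refl _)) : Upto _ _ 3616 (3616 + 2 ^ 5)))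
    (Upto.trans (mid := 3680) ((Upto.of_pow rels_ok_c114 (Nat.le_refl _)) : Upto _ _ 3648 (3648 + 2 ^ 5))
    ((Upto.of_pow rels_ok_c115 (Nat.le_refl _)) : Upto _ _ 3680 (3680 + 2 ^ 5))))
    (Upto.trans (mid := 3776) (Upto.trans (mid := 3744) ((Upto.of_pow rels_ok_c116 (Nat.le_refl _)) : Upto _ _ 3712 (3712 + 2 ^ 5))
    ((Upto.of_pow rels_ok_c117 (Nat.le_refl _)) : Upto _ _ 3744 (3744 + 2 ^ 5)))
    (Upto.trans (mid := 3808) ((Upto.of_pow rels_ok_c118 (Nat.le_refl _)) : Upto _ _ 3776 (3776 + 2 ^ 5))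
    ((Upto.of_pow rels_ok_c119 (Nat.le_refl _)) : Upto _ _ 3808 (3808 + 2 ^ 5)))))
    (Upto.trans (mid := 3968) (Upto.trans (mid := 3904) (Upto.trans (mid := 3872) ((Upto.of_pow rels_ok_c120 (Nat.le_refl _)) : Upto _ _ 3840 (3840 + 2 ^ 5))
    ((Upto.of_pow rels_ok_c121 (Nat.le_refl _)) : Upto _ _ 3872 (3872 + 2 ^ 5)))
    (Upto.trans (mid := 3936) ((Upto.of_pow rels_ok_c122 (Nat.le_refl _)) : Upto _ _ 3904 (3904 + 2 ^ 5))
    ((Upto.of_pow rels_ok_c123 (Nat.le_refl _)) : Upto _ _ 3936 (3936 + 2 ^ 5))))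
    (Upto.trans (mid := 4032) (Upto.trans (mid := 4000) ((Upto.of_pow rels_ok_c124 (Nat.le_refl _)) : Upto _ _ 3968 (3968 + 2 ^ 5))
    ((Upto.of_pow rels_ok_c125 (Nat.le_refl _)) : Upto _ _ 4000 (4000 + 2 ^ 5)))
    (Upto.trans (mid := 4064) ((Upto.of_pow rels_ok_c126 (Nat.le_refl _)) : Upto _ _ 4032 (4032 + 2 ^ 5))
    ((Upto.of_pow rels_ok_c127 (Nat.le_refl _)) : Upto _ _ 4064 (4064 + 2 ^ 5)))))))))
    (by decide) (by decide)

theorem vec_step (a : Gen) (u : Nat) (hu : u < 4095) : mat a *ᵥ vec u = vec (tabs a true u) := by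
  have hs : vecStep a u = true := by
    cases a
    · exact allBelow_spec vec_a u hu
    · exact allBelow_spec vec_b u hu
    · exact allBelow_spec vec_c u hu
    · exact allBelow_spec vec_d u hu
    · exact allBelow_spec vec_e u hu
    · exact allBelow_spec vec_f u hu
    · exact allBelow_spec vec_g u hu
  simp only [vecStep, coordStep, Bool.and_eq_true] at hs
  obtain ⟨⟨⟨⟨⟨h0, h1⟩, h2⟩, h3⟩, h4⟩, h5⟩ := hs
  funext k
  have hl := fun i j => nib_lt i j
  have hm := fun x y => nmul_lt x y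
  simp only [Matrix.mulVec, dotProduct, Fin.sum_univ_six, mat, Matrix.of_apply, vec]
  rw [← toK_mul' (hl _ _) (hl _ _), ← toK_mul' (hl _ _) (hl _ _), ← toK_mul' (hl _ _) (hl _ _),
    ← toK_mul' (hl _ _) (hl _ _), ← toK_mul' (hl _ _) (hl _ _), ← toK_mul' (hl _ _) (hl _ _),
    ← toK_xor' (hm _ _) (hm _ _), ← toK_xor' (xor_lt (hm _ _) (hm _ _)) (hm _ _),
    ← toK_xor' (xor_lt (xor_lt (hm _ _) (hm _ _)) (hm _ _)) (hm _ _),
    ← toK_xor' (xor_lt (xor_lt (xor_lt (hm _ _) (hm _ _)) (hm _ _)) (hm _ _)) (hm _ _),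
    ← toK_xor' (xor_lt (xor_lt (xor_lt (xor_lt (hm _ _) (hm _ _)) (hm _ _)) (hm _ _)) (hm _ _)) (hm _ _)]
  fin_cases k
  · exact (congrArg toK (Nat.eq_of_beq_eq_true h0)).symm
  · exact (congrArg toK (Nat.eq_of_beq_eq_true h1)).symm
  · exact (congrArg toK (Nat.eq_of_beq_eq_true h2)).symm
  · exact (congrArg toK (Nat.eq_of_beq_eq_true h3)).symm
  · exact (congrArg toK (Nat.eq_of_beq_eq_true h4)).symm
  · exact (congrArg toK (Nat.eq_of_beq_eq_true h5)).symm

theorem vec_injective {u v : Nat} (hu : u < 4095) (hv : v < 4095) (h : vec u = vec v) : u = v := by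
  have key : ∀ k : Fin 6, nib (u + 1) k = nib (v + 1) k := fun k =>
    congrArg Fin.val (toK_inj ⟨_, nib_lt _ _⟩ ⟨_, nib_lt _ _⟩ (congrFun h k))
  have hnib : ∀ n k, nib n k = n / 4 ^ k % 4 := by
    intro n k
    show n >>> (2 * k) &&& 3 = _
    rw [Nat.shiftRight_eq_div_pow, Nat.and_two_pow_sub_one_eq_mod _ 2, pow_mul]
    norm_num
  have e0 := key 0
  have e1 := key 1
  have e2 := key 2
  have e3 := key 3
  have e4 := key 4
  have e5 := key 5
  simp only [hnib] at e0 e1 e2 e3 e4 e5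
  norm_num at e0 e1 e2 e3 e4 e5
  omega

theorem basis_chk : ∀ j i : Fin 6, vec (4 ^ (j : Nat) - 1) i = (Pi.single j 1 : Fin 6 → K4) i := by
  unfold vec
  decide +kernel

/-- A matrix fixing all the vectors is `1`. -/
theorem eq_one_of_fix {A : Matrix (Fin 6) (Fin 6) K4} (h : ∀ u, u < 4095 → A *ᵥ vec u = vec u) : A = 1 := by
  apply Matrix.ext_of_mulVec_single
  intro j
  rw [← funext (basis_chk j), Matrix.one_mulVec]
  refine h _ ?_
  have : 4 ^ (j : Nat) ≤ 4 ^ 5 := Nat.pow_le_pow_right (by norm_num) (by omega)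
  omega

theorem mat_mul_self (a : Gen) : mat a * mat a = 1 := by
  refine eq_one_of_fix fun u hu => ?_
  rw [← Matrix.mulVec_mulVec, vec_step a u hu, vec_step a _ (tablesOK a true u hu).1]
  have := (tablesOK a true u hu).2
  have hb : tabs a (!true) = tabs a true := by cases a <;> rfl
  rw [hb] at this
  rw [this]

theorem mat_eq_rootW : ∀ a : Gen, ((rootW a).map fun rt =>
    CfsgLib.OrderDegrees.G2.Y (F := K4) rt.1 (toK rt.2)).prod = mat a := by
  intro a
  cases a <;> decide +kernel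

end CfsgLib.SporRecognition.SuzG2
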